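import Cfsg.Agent.Coset.Table

/-!
Computing in a finite group from an enumeration of its elements: a table over the trivial subgroup.
-/

set_option autoImplicit false

namespace CfsgLib.J2U

open CfsgLib.Coset

/-- The word of a node of a spanning tree. -/
noncomputable def pathW (Par : Nat → Nat) : Nat → Nat → List Nat
  | 0, _ => []
  | s + 1, i => if i = 0 then [] else pathW Par s (field (Par i) 0) ++ [field (Par i) 1]

/-- The tree words lead to their nodes. -/
noncomputable def checkPath (Tb Par : Nat → Nat) (fuel n k dn : Nat) : Bool :=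
  allBelow dn n fun i =>
    cond (allList (fun l => Nat.blt l k) (pathW Par fuel i))
      (Nat.beq (follow (tget Tb) 0 (pathW Par fuel i)) i) false

theorem checkPath_iff {Tb Par : Nat → Nat} {fuel n k dn : Nat}
    (h : checkPath Tb Par fuel n k dn = true) {i : Nat} (hi : i < n) :
    (∀ l ∈ pathW Par fuel i, l < k) ∧ follow (tget Tb) 0 (pathW Par fuel i) = i := by
  have h := of_allBelow h i hi
  rw [cond_false_eq_true] at h
  refine ⟨fun l hl => ?_, Nat.eq_of_beq_eq_true h.2⟩
  have := (allList_iff.mp h.1) l hl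
  exact Nat.blt_eq.mp this

variable {G : Type*} [Group G] {L : List G} {E iv : Nat → Nat} {n : Nat} {Rep Tb Par : Nat → Nat}

theorem follow_lt (h : TableOK L (⊥ : Subgroup G) E iv n Rep Tb) :
    ∀ (w : List Nat) (i : Nat), i < n → (∀ l ∈ w, l < L.length) → follow (tget Tb) i w < n := by
  intro w
  induction w with
  | nil => intro i hi _; simpa [follow_nil] using hi
  | cons l w ih =>
    intro i hi hl
    rw [follow_cons]
    exact ih _ (h.lt i hi l (hl l (by simp))) fun x hx => hl x (by simp [hx])

theorem follow_append' (step : Nat → Nat → Nat) (u v : List Nat) (i : Nat) :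
    follow step i (u ++ v) = follow step (follow step i u) v := by
  induction u generalizing i with
  | nil => simp [follow_nil]
  | cons l u ih => rw [List.cons_append, follow_cons, follow_cons, ih]

/-- The element of a node. -/
theorem rp_follow (h : TableOK L (⊥ : Subgroup G) E iv n Rep Tb) (hn : 0 < n) {w : List Nat}
    (hl : ∀ l ∈ w, l < L.length) : ev L w = rp L E (Rep (follow (tget Tb) 0 w)) := by
  have h1 := h.mem_of_follow w 0 hn hl
  rw [h.zero, rp_zero, one_mul, Subgroup.mem_bot, mul_inv_eq_one] at h1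
  exact h1

/-- Equal nodes give equal elements. -/
theorem ev_eq_of_follow (h : TableOK L (⊥ : Subgroup G) E iv n Rep Tb) (hn : 0 < n) {u v : List Nat}
    (hu : ∀ l ∈ u, l < L.length) (hv : ∀ l ∈ v, l < L.length)
    (he : follow (tget Tb) 0 u = follow (tget Tb) 0 v) : ev L u = ev L v := by
  rw [rp_follow h hn hu, rp_follow h hn hv, he]

/-- The checked form of `ev_eq_of_follow`. -/
noncomputable def sameT (Tb : Nat → Nat) (k : Nat) (u v : List Nat) : Bool :=
  cond (allList (fun l => Nat.blt l k) u) (cond (allList (fun l => Nat.blt l k) v)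
    (Nat.beq (follow (tget Tb) 0 u) (follow (tget Tb) 0 v)) false) false

theorem ev_eq_of_sameT (h : TableOK L (⊥ : Subgroup G) E iv n Rep Tb) (hn : 0 < n) {k : Nat}
    (hk : L.length = k) {u v : List Nat} (he : sameT Tb k u v = true) : ev L u = ev L v := by
  subst hk
  unfold sameT at he
  rw [cond_false_eq_true, cond_false_eq_true] at he
  exact ev_eq_of_follow h hn (fun l hl => Nat.blt_eq.mp (allList_iff.mp he.1 l hl))
    (fun l hl => Nat.blt_eq.mp (allList_iff.mp he.2.1 l hl)) (Nat.eq_of_beq_eq_true he.2.2)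

/-- Every element of the generated subgroup is a tree word. -/
theorem exists_path (h : TableOK L (⊥ : Subgroup G) E iv n Rep Tb) (hn : 0 < n) {fuel dn : Nat}
    (hp : checkPath Tb Par fuel n L.length dn = true) {g : G}
    (hg : g ∈ Subgroup.closure {x | x ∈ L}) : ∃ i < n, g = ev L (pathW Par fuel i) := by
  obtain ⟨i, hi, hgi⟩ := h.cover hn hg
  obtain ⟨hl, hf⟩ := checkPath_iff hp hi
  refine ⟨i, hi, ?_⟩
  rw [rp_follow h hn hl, hf]
  exact mul_inv_eq_one.mp (Subgroup.mem_bot.mp hgi)

theorem rp_injective (h : TableOK L (⊥ : Subgroup G) E iv n Rep Tb) (hn : 0 < n)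
    (hcard : n ≤ Nat.card (Subgroup.closure {x | x ∈ L} : Subgroup G)) :
    ∀ i < n, ∀ j < n, rp L E (Rep i) = rp L E (Rep j) → i = j := by
  let f : Fin n → (Subgroup.closure {x | x ∈ L} : Subgroup G) :=
    fun i => ⟨rp L E (Rep i), rp_mem_closure E _⟩
  have hf : Function.Surjective f := fun g => by
    obtain ⟨i, hi, hgi⟩ := h.cover hn g.2
    exact ⟨⟨i, hi⟩, Subtype.ext (mul_inv_eq_one.mp (Subgroup.mem_bot.mp hgi)).symm⟩
  have : Finite (Subgroup.closure {x | x ∈ L} : Subgroup G) := Finite.of_surjective f hf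
  have hc : Nat.card (Fin n) = Nat.card (Subgroup.closure {x | x ∈ L} : Subgroup G) :=
    le_antisymm ((Nat.card_fin n).le.trans hcard) (Nat.card_le_card_of_surjective f hf)
  intro i hi j hj e
  exact congrArg Fin.val (((Nat.bijective_iff_surjective_and_card f).mpr ⟨hf, hc⟩).1
    (show f ⟨i, hi⟩ = f ⟨j, hj⟩ from Subtype.ext e))

/-- Equal elements give equal nodes. -/
theorem follow_eq_of_ev (h : TableOK L (⊥ : Subgroup G) E iv n Rep Tb) (hn : 0 < n)
    (hcard : n ≤ Nat.card (Subgroup.closure {x | x ∈ L} : Subgroup G)) {u v : List Nat}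
    (hu : ∀ l ∈ u, l < L.length) (hv : ∀ l ∈ v, l < L.length) (he : ev L u = ev L v) :
    follow (tget Tb) 0 u = follow (tget Tb) 0 v := by
  rw [rp_follow h hn hu, rp_follow h hn hv] at he
  exact rp_injective h hn hcard _ (follow_lt h u 0 hn hu) _ (follow_lt h v 0 hn hv) he

/-- The inverse of a letter, from the relators. -/
theorem inv_of_rels {k : Nat} (hk : L.length = k) {rels : List (List Nat)}
    (hrel : ∀ w ∈ rels, ev L w = 1)
    (hc : ((List.range k).all fun x => rels.contains [x, iv x]) = true)
    (hout : ∀ x, k ≤ x → iv x = x) (x : Nat) : fl L (iv x) = (fl L x)⁻¹ := by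
  rcases lt_or_ge x k with hx | hx
  · have := hrel _ (List.contains_iff_mem.mp (List.all_eq_true.mp hc x (List.mem_range.mpr hx)))
    rw [ev_cons, ev_cons, ev_nil, mul_one] at this
    exact (inv_eq_of_mul_eq_one_right this).symm
  · rw [hout x hx, fl_of_le L (by omega), inv_one]

/-- Inverting a word. -/
theorem ev_inv_word (hiv : ∀ x, fl L (iv x) = (fl L x)⁻¹) (w : List Nat) :
    ev L (w.map iv).reverse = (ev L w)⁻¹ := by
  induction w with
  | nil => simp
  | cons l w ih =>
    rw [List.map_cons, List.reverse_cons, ev_append, ih, ev_cons, ev_cons, ev_nil, mul_one, hiv,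
      mul_inv_rev]

end CfsgLib.J2U
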