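import Cfsg.Agent.Coset.Prim

/-! Letters and relators for the recognition of the Hall–Janko group. -/

set_option autoImplicit false
set_option maxRecDepth 100000

namespace CfsgLib.J2U

/-- Letters of the centraliser of the involution: five involutions of the normal subgroup, two involutions, an element of order three, its inverse, the central involution. -/
def ivC (x : Nat) : Nat := ([0, 1, 2, 3, 4, 5, 6, 8, 7, 9] : List Nat).getD x x

/-- Letters of the whole group: those of the centraliser with an element of order three and its inverse. -/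
def ivG (x : Nat) : Nat := ([0, 1, 2, 3, 4, 5, 6, 8, 7, 10, 9, 11] : List Nat).getD x x

/-- Letters of the centraliser of the element of order three. -/
def ivR (x : Nat) : Nat := ([0, 1, 2, 4, 3, 6, 5, 8, 7] : List Nat).getD x x

/-- A letter of the centraliser as a letter of the whole group. -/
def toG : List Nat := [0, 1, 2, 3, 4, 5, 6, 7, 8, 11]

/-- Letters of the complement: an involution, an element of order three and its inverse. -/
def ivA (x : Nat) : Nat := ([0, 2, 1] : List Nat).getD x x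

/-- Relators of the complement. -/
def relsAlt : List (List Nat) := [[1, 2], [2, 1], [0, 0], [1, 1, 1], [0, 1, 0, 1, 0, 1, 0, 1, 0, 1]]

/-- Relators of the centraliser. -/
def relsC : List (List Nat) := [[7, 8], [8, 7], [0, 0], [1, 1], [2, 2], [3, 3], [4, 4], [5, 5], [6, 6], [9, 9], [9, 0, 9, 0], [9, 1, 9, 1], [9, 2, 9, 2], [9, 3, 9, 3], [9, 4, 9, 4], [9, 5, 9, 5], [9, 6, 9, 6], [9, 7, 9, 8], [0, 1, 0, 1, 9], [0, 2, 0, 2, 9], [0, 3, 0, 3, 9], [0, 4, 0, 4, 9], [1, 2, 1, 2, 9], [1, 3, 1, 3, 9], [1, 4, 1, 4, 9], [2, 3, 2, 3, 9], [2, 4, 2, 4, 9], [3, 4, 3, 4, 9], [0, 1, 2, 3, 4, 9], [5, 0, 5, 1], [5, 1, 5, 0], [5, 2, 5, 2], [5, 3, 5, 4], [5, 4, 5, 3], [6, 0, 6, 0], [6, 1, 6, 2], [6, 2, 6, 1], [6, 3, 6, 4], [6, 4, 6, 3], [7, 0, 8, 0], [7, 1, 8, 2], [7, 2, 8, 3], [7, 3, 8, 1], [7, 4, 8, 4], [7, 7, 7], [5, 7, 5, 7, 5, 7, 5, 7, 5, 7], [7, 6, 7, 6, 7, 6], [6, 8, 5, 8, 5, 7, 5, 7]]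

/-- Relators of the whole group without the last family. -/
def relsY : List (List Nat) := [[9, 10], [10, 9], [9, 9, 9], [9, 7, 10, 8], [9, 6, 10, 6], [9, 11, 10, 0], [9, 0, 10, 0, 11], [9, 1, 2, 10, 8, 6, 7, 4, 1], [9, 4, 9, 4, 8]]

/-- The relators of the amalgam. -/
def relsA : List (List Nat) := relsC.map (fun w => w.map fun l => toG.getD l 12) ++ relsY

/-- The letters of the centraliser of the element of order three as words. -/
def cr2g : List (List Nat) := [[11], [0], [4], [9], [10], [5, 8, 5, 7, 5, 8, 5, 7, 5, 9, 5, 8, 5, 7, 5, 8, 5, 7, 5], [5, 8, 5, 7, 5, 8, 5, 7, 5, 10, 5, 8, 5, 7, 5, 8, 5, 7, 5], [7], [8]]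

/-- Expanding such a word. -/
def expR (w : List Nat) : List Nat := w.flatMap fun l => cr2g.getD l []

/-- Relators of that centraliser. -/
def relsR : List (List Nat) := [[3, 4], [4, 3], [5, 6], [6, 5], [7, 8], [8, 7], [0, 0], [1, 1], [2, 2], [3, 3, 3], [5, 5, 5], [7, 7, 7], [1, 0, 1, 0], [2, 0, 2, 0], [1, 2, 1, 2, 0], [7, 0, 8, 0], [7, 1, 8, 1], [7, 2, 8, 2], [7, 3, 8, 4], [7, 5, 8, 6], [3, 0, 4, 1], [3, 1, 4, 1, 0], [3, 2, 3, 2, 8], [5, 0, 6, 2], [5, 2, 6, 2, 0], [5, 1, 5, 1, 7]]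

/-- Power relators. -/
def qPow (k e : Nat) : List Nat := (List.replicate k [3, 6]).flatten ++ [[], [7], [8]].getD e []

/-- A word inverted. -/
def invG (w : List Nat) : List Nat := (w.map ivG).reverse

/-- The involution of the alternating subgroup in the first case. -/
def mZero : List Nat := [3, 6, 3, 6]

/-- The involution of the alternating subgroup in the second case. -/
def mOne : List Nat := [0, 6, 3, 5, 7]

/-- The relators saying that an element is an involution commuting with the four-group. -/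
def relsM (m : List Nat) : List (List Nat) := [expR m ++ expR m, expR m ++ [6] ++ invG (expR m) ++ [6]]

/-- The presentation. -/
def relsG : List (List Nat) := relsA ++ relsM mZero

/-- The generators of the centraliser among the letters. -/
def subsC : List (List Nat) := [[0], [1], [2], [3], [4], [5], [6], [7], [11]]

/-- The images of the letters in the reflections. -/
def toRefl : List (List Nat) := [[2, 3, 0, 2, 1, 3, 1, 2, 0, 3, 2], [4, 1, 2, 3, 2, 1, 4, 0], [2, 1, 3, 1, 0, 2, 1, 0, 3, 1, 2], [2, 1, 0, 4, 1, 3, 1, 4, 1, 0, 2], [1], [4, 0, 2, 4, 1, 2, 3, 1, 0, 3, 1, 0], [3, 2, 0, 3, 2, 4, 0, 2, 4, 0, 2, 1, 0], [4, 2, 3, 0, 4, 3, 0, 2, 3, 4, 1], [4, 3, 2, 0, 3, 4, 0, 3, 2, 4, 1], [0, 2, 1, 3, 4, 1, 2, 0, 4, 3, 2], [2, 3, 4, 0, 2, 1, 4, 3, 1, 2, 0], [0]]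

/-- The reflections in the letters. -/
def fromRefl : List (List Nat) := [[10, 0, 9], [4], [10, 5, 7, 5, 10, 5, 4, 9, 6], [10, 8, 5, 0, 10, 6, 5, 10, 6, 4], [9, 6, 8, 5, 4, 10, 5, 0, 9, 7, 1]]

end CfsgLib.J2U
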