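import Cfsg.Agent.Coset.Table
import Cfsg.Agent.J2U.Letters
import Cfsg.Agent.J2U.TG1Data

set_option autoImplicit false
set_option maxRecDepth 100000

namespace CfsgLib.J2U.TG1

open CfsgLib.Coset

theorem hR : checkRules (relsA ++ relsM mOne) subs R = true := by decide +kernel
theorem hdefs : checkDefs E 12 9 407 = true := by decide +kernel
theorem hsteps : checkChunks E ivG R 12 5 407 24 C = true := by decide +kernel
theorem htable : checkTable E ivG (407 + chunk * 24) 1 12 1 4 Rep Ref Tb = true := by decide +kernel

end CfsgLib.J2U.TG1
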