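import Cfsg.Agent.J2U.CentR
import Cfsg.Agent.J2U.TG1

/-!
Recognition of the Hall–Janko group from the local data at an involution.
-/

set_option autoImplicit false
set_option maxRecDepth 100000

namespace CfsgLib.J2U

open CfsgLib.Coset

universe uM

variable {G : Type uM} [Group G] [Finite G] {z : G} {b : Fin 5 → G} {S w x y : G} {M : Subgroup G}

theorem kSubs : [KThree0.subs, KThree1.subs, KThree2.subs, KFive0.subs, KFive1.subs, KFive2.subs] =
    List.replicate 6 [[0], [1], [2], [7]] := by decide +kernel

theorem k_subs_mem (B : Base z b S w x y M) (v : G) : ∀ u ∈ ([[0], [1], [2], [7]] : List (List Nat)),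
    ev (LRof z b y v x) u ∈ Subgroup.centralizer ({z} : Set G) := by
  intro u hu
  have hmem : ∀ a ∈ LCof z b S w x, a ∈ Subgroup.centralizer ({z} : Set G) := fun a ha =>
    B.gen ▸ Subgroup.subset_closure ha
  simp only [List.mem_cons, List.not_mem_nil, or_false] at hu
  rcases hu with rfl | rfl | rfl | rfl <;> simp only [ev_cons, ev_nil, mul_one] <;>
    exact hmem _ (by simp [LCof, LRof, fl])

theorem no_small (A : Amal z b S w x y M) {k e : Nat} (hk : k = 3 ∨ k = 5) (he : e < 3)
    (hq : ev (LRof z b y (vEl z b S w x y) x) (qPow k e) = 1) : False := by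
  have hrel : ∀ u ∈ relsR ++ [qPow k e], ev (LRof z b y (vEl z b S w x y) x) u = 1 := by
    intro u hu
    rcases List.mem_append.mp hu with h | h
    · exact A.relR u h
    · rw [List.mem_singleton.mp h]; exact hq
  have hiv := inv_of_rels (show (LRof z b y (vEl z b S w x y) x).length = 9 from rfl) hrel (invR_table k e) ivR_out
  have hs := k_subs_mem A.base (vEl z b S w x y)
  have hsubs := kSubs
  simp only [List.replicate, List.cons.injEq, and_true] at hsubs
  obtain ⟨s0, s1, s2, s3, s4, s5⟩ := hsubs
  rcases hk with rfl | rfl <;> interval_cases e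
  · exact A.collapse (tableOK_of_check hiv KThree0.hR KThree0.hdefs KThree0.hsteps KThree0.htable hrel (s0.symm ▸ hs))
  · exact A.collapse (tableOK_of_check hiv KThree1.hR KThree1.hdefs KThree1.hsteps KThree1.htable hrel (s1.symm ▸ hs))
  · exact A.collapse (tableOK_of_check hiv KThree2.hR KThree2.hdefs KThree2.hsteps KThree2.htable hrel (s2.symm ▸ hs))
  · exact A.collapse (tableOK_of_check hiv KFive0.hR KFive0.hdefs KFive0.hsteps KFive0.htable hrel (s3.symm ▸ hs))
  · exact A.collapse (tableOK_of_check hiv KFive1.hR KFive1.hdefs KFive1.hsteps KFive1.htable hrel (s4.symm ▸ hs))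
  · exact A.collapse (tableOK_of_check hiv KFive2.hR KFive2.hdefs KFive2.hsteps KFive2.htable hrel (s5.symm ▸ hs))

theorem invA_table : ((List.range 12).all fun x => relsA.contains [x, ivG x]) = true := by decide +kernel

theorem ev_relsM (A : Amal z b S w x y M) (m : List Nat)
    (h2 : ev (LRof z b y (vEl z b S w x y) x) (m ++ m) = 1)
    (hw : w * ev (LRof z b y (vEl z b S w x y) x) m = ev (LRof z b y (vEl z b S w x y) x) m * w) :
    ∀ u ∈ relsM m, ev (LGof z b S w x y) u = 1 := by
  have hiv := inv_of_rels (show (LGof z b S w x y).length = 12 from rfl) A.relA invA_table ivG_out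
  set e := ev (LRof z b y (vEl z b S w x y) x) m with he
  intro u hu
  simp only [relsM, List.mem_cons, List.not_mem_nil, or_false] at hu
  rcases hu with rfl | rfl
  · rw [ev_append, A.ev_expR, ← he, he, ← ev_append]; exact h2
  · have ww : w * w = 1 := by
      simpa [LCof, fl] using A.base.eqC (u := [6, 6]) (v := []) (by decide +kernel)
    rw [ev_append, ev_append, ev_append, invG, ev_inv_word hiv, A.ev_expR, ← he]
    have : ev (LGof z b S w x y) [6] = w := by simp [LGof, fl]
    rw [this, show e * w * e⁻¹ = w by rw [← hw]; group, ww]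

/-- The group is the Hall–Janko group. -/
theorem isoJ2_of_amal (A : Amal z b S w x y M) : Cfsg.Spor.IsoJ2 G := by
  have B := A.base
  rcases B.spec _ A.q_comm with h | h | h
  · obtain ⟨e, he, hq⟩ := A.qPow_rel h
    interval_cases e
    · obtain ⟨-, h2, hw⟩ := A.m_word checks_zero.{uM} hq
      refine isoJ2_of_rels B.cardG (L := LGof z b S w x y) rfl (fun u hu => ?_) B.zne
      rcases List.mem_append.mp hu with h' | h'
      · exact A.relA u h'
      · exact ev_relsM A mZero h2 hw u h'
    · exfalso
      obtain ⟨-, h2, hw⟩ := A.m_word checks_one.{uM} hq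
      have hrel : ∀ u ∈ relsA ++ relsM mOne, ev (LGof z b S w x y) u = 1 := by
        intro u hu
        rcases List.mem_append.mp hu with h' | h'
        · exact A.relA u h'
        · exact ev_relsM A mOne h2 hw u h'
      have hiv := inv_of_rels (show (LGof z b S w x y).length = 12 from rfl) A.relA invA_table ivG_out
      have T : TableOK (LGof z b S w x y) (Subgroup.centralizer ({z} : Set G)) TG1.E ivG 1 TG1.Rep TG1.Tb :=
        tableOK_of_check hiv TG1.hR TG1.hdefs TG1.hsteps TG1.htable hrel (fun u hu => by
          rw [show TG1.subs = subsC from by decide +kernel] at hu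
          simp only [subsC, List.mem_cons, List.not_mem_nil, or_false] at hu
          rw [← B.gen]
          rcases hu with rfl | rfl | rfl | rfl | rfl | rfl | rfl | rfl | rfl <;>
            simp only [ev_cons, ev_nil, mul_one] <;>
            exact Subgroup.subset_closure (by simp [LGof, LCof, fl]))
      have hy : ev (LGof z b S w x y) [9] ∈ Subgroup.centralizer ({z} : Set G) := by
        refine T.ev_mem (by norm_num) (fun l hl => by simp at hl; subst hl; simp [LGof]) ?_
        have := T.lt 0 (by norm_num) 9 (by simp [LGof])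
        rw [follow_cons, follow_nil]; omega
      rw [Subgroup.mem_centralizer_singleton_iff] at hy
      refine B.bne ?_
      rw [← B.yz]
      have : y * z = z * y := by simpa [LGof, fl] using hy
      rw [this]; group
    · exact absurd rfl (A.m_word checks_two.{uM} hq).1
  · obtain ⟨e, he, hq⟩ := A.qPow_rel h
    exact (no_small A (Or.inl rfl) he hq).elim
  · obtain ⟨e, he, hq⟩ := A.qPow_rel h
    exact (no_small A (Or.inr rfl) he hq).elim

/-- The group is the Hall–Janko group. -/
theorem isoJ2_of_loc {Q : Subgroup G} {a : Fin 5 → G} {π : G → Equiv.Perm (Fin 5)}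
    (L : HJT.Loc z Q a π) : Cfsg.Spor.IsoJ2 G := by
  obtain ⟨b, S, w, x, y, M, B⟩ := exists_base L
  obtain ⟨y', A⟩ := exists_amal B
  exact isoJ2_of_amal A

end CfsgLib.J2U
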