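import Cfsg.Agent.HJT.Three
import Cfsg.Agent.HJT.Five
import Cfsg.Agent.HJT.Seven

/-!
The centraliser of an element of order three centralising a subgroup `A₅`: its order, and the orders of its
elements modulo the cyclic group it generates.
-/

set_option autoImplicit false
set_option linter.style.haveILetI false

namespace CfsgLib.J2U

open CfsgLib.HJT

variable {G : Type*} [Group G] [Finite G] {z : G} {Q : Subgroup G} {a : Fin 5 → G}
  {π : G → Equiv.Perm (Fin 5)} (L : Loc z Q a π)

include L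

theorem x_mem_cz {t : G} {W M : Subgroup G} {x y : G} (D : ThreeData z t W M x y) : x ∈ Cz z :=
  Loc.memC.2 (D.xM z D.zM)

/-- The centraliser has order 1080. -/
theorem card_cent_x {t : G} {W M : Subgroup G} {x y : G} (D : ThreeData z t W M x y) :
    Nat.card (Subgroup.centralizer ({x} : Set G)) = 1080 := by
  classical
  haveI : Fact (Nat.Prime 3) := ⟨Nat.prime_three⟩
  haveI : Fact (Nat.Prime 5) := ⟨by norm_num⟩
  haveI : Fact (Nat.Prime 7) := ⟨by norm_num⟩
  set C := Subgroup.centralizer ({x} : Set G) with hC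
  have memx : ∀ {g : G}, g ∈ C ↔ g * x = x * g := Subgroup.mem_centralizer_singleton_iff
  set n := Nat.card C with hn
  obtain ⟨h8, h16⟩ := L.cent_three_sylow (x_mem_cz L D) D.x3
  rw [← hC, ← hn] at h8 h16
  have hdvd : n ∣ 604800 := L.card_group ▸ Subgroup.card_subgroup_dvd_card C
  have h27 : 27 ∣ n := by
    obtain ⟨P, -, -, hP, -⟩ := L.three_main D
    rw [← L.card_sylow_three P]
    exact Subgroup.card_dvd_of_le fun g hg => memx.2 (hP g hg)
  have h5 : 5 ∣ n := by
    obtain ⟨v, hv⟩ := exists_prime_orderOf_dvd_card' (G := M) 5 (by rw [D.split.card_M]; norm_num)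
    have hvC : (v : G) ∈ C := memx.2 (D.xM v v.2).symm
    have := Subgroup.orderOf_dvd_natCard C hvC
    rwa [Subgroup.orderOf_coe, hv] at this
  have h25 : ¬ 25 ∣ n := by
    intro h
    obtain ⟨K, hK⟩ := Sylow.exists_subgroup_card_pow_prime 5 (n := 2) (G := C) (by norm_num; exact h)
    set K' := K.map C.subtype
    have hK' : Nat.card K' = 25 := by
      rw [Subgroup.card_map_of_injective C.subtype_injective, hK]; norm_num
    obtain ⟨P, hP⟩ := (IsPGroup.of_card (p := 5) (n := 2) (by rw [hK']; norm_num) :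
      IsPGroup 5 K').exists_le_sylow
    have he : K' = (P : Subgroup G) := Subgroup.eq_of_le_of_card_ge hP (by rw [L.card_sylow_five P, hK'])
    have hxP : x ∈ (P : Subgroup G) := by
      rw [← L.cent_sylow_five P, Subgroup.mem_centralizer_iff]
      intro g hg
      have hg' : g ∈ K' := he ▸ hg
      exact memx.1 (Subgroup.map_subtype_le K hg')
    have := Subgroup.orderOf_dvd_natCard _ hxP
    rw [D.x3, L.card_sylow_five P] at this
    norm_num at this
  have h7 : ¬ 7 ∣ n := by
    intro h
    obtain ⟨d, hd⟩ := exists_prime_orderOf_dvd_card' (G := C) 7 h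
    have hd' : orderOf (d : G) = 7 := by rw [Subgroup.orderOf_coe, hd]
    obtain ⟨P, hP⟩ := (IsPGroup.of_card (p := 7) (n := 1) (by rw [Nat.card_zpowers, hd', pow_one]) :
      IsPGroup 7 (Subgroup.zpowers (d : G))).exists_le_sylow
    have he : Subgroup.zpowers (d : G) = (P : Subgroup G) := Subgroup.eq_of_le_of_card_ge hP
      (by rw [L.card_sylow_seven P, Nat.card_zpowers, hd'])
    have hxP : x ∈ (P : Subgroup G) := by
      rw [← (L.seven_main P).1, Subgroup.mem_centralizer_iff]
      intro g hg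
      obtain ⟨i, rfl⟩ := Subgroup.mem_zpowers_iff.1 (he ▸ hg : g ∈ Subgroup.zpowers (d : G))
      exact ((show Commute (d : G) x from memx.1 d.2).zpow_left i).eq
    have := Subgroup.orderOf_dvd_natCard _ hxP
    rw [D.x3, L.card_sylow_seven P] at this
    norm_num at this
  have h1080 : 1080 ∣ n := by
    have h216 : 8 * 27 ∣ n := Nat.Coprime.mul_dvd_of_dvd_of_dvd (by norm_num) h8 h27
    exact Nat.Coprime.mul_dvd_of_dvd_of_dvd (by norm_num : Nat.Coprime (8 * 27) 5) h216 h5
  obtain ⟨m, hm⟩ := h1080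
  rw [hm] at hdvd h16 h25 h7 ⊢
  have hm560 : m ∣ 2 ^ 4 * (5 * 7) := by
    have : 1080 * m ∣ 1080 * (2 ^ 4 * (5 * 7)) := by norm_num; exact hdvd
    exact (Nat.mul_dvd_mul_iff_left (by norm_num : 0 < 1080)).1 this
  have h2 : Nat.Coprime m (2 ^ 4) := Nat.Coprime.pow_right 4 ((Nat.prime_two.coprime_iff_not_dvd.2
    fun h => h16 (dvd_trans (by norm_num) (Nat.mul_dvd_mul_left 1080 h))).symm)
  have h5' : Nat.Coprime m 5 := ((Nat.Prime.coprime_iff_not_dvd (by norm_num : Nat.Prime 5)).2
    fun h => h25 (dvd_trans (by norm_num) (Nat.mul_dvd_mul_left 1080 h))).symm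
  have h7' : Nat.Coprime m 7 := ((Nat.Prime.coprime_iff_not_dvd (by norm_num : Nat.Prime 7)).2
    fun h => h7 (dvd_trans h (Dvd.intro_left _ rfl))).symm
  have : m ∣ 1 := by
    have := h2.dvd_of_dvd_mul_left hm560
    have := h5'.dvd_of_dvd_mul_left this
    have := h7'.dvd_of_dvd_mul_left (this.trans (dvd_of_eq (mul_one 7).symm))
    exact this
  rw [Nat.dvd_one.1 this]

omit [Finite G] L in
theorem alt5_three_cent : ∀ σ : Equiv.Perm (Fin 5), Equiv.Perm.sign σ = 1 → σ ^ 3 = 1 → σ ≠ 1 →
    ∀ τ : Equiv.Perm (Fin 5), Equiv.Perm.sign τ = 1 → τ * σ = σ * τ → τ = 1 ∨ τ = σ ∨ τ = σ * σ := by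
  decide +kernel

/-- An element of the centraliser has order three, four or five modulo the cyclic group of `x`. -/
theorem x_spectrum {t : G} {W M : Subgroup G} {x y : G} (D : ThreeData z t W M x y) {g : G}
    (hg : g * x = x * g) :
    g ^ 4 ∈ Subgroup.zpowers x ∨ g ^ 3 ∈ Subgroup.zpowers x ∨ g ^ 5 ∈ Subgroup.zpowers x := by
  classical
  haveI : Fact (Nat.Prime 3) := ⟨Nat.prime_three⟩
  have hX := card_cent_x L D
  have hxC := x_mem_cz L D
  have hgC : g ∈ Subgroup.centralizer ({x} : Set G) := Subgroup.mem_centralizer_singleton_iff.2 hg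
  have hn : orderOf g ∣ 1080 := hX ▸ Subgroup.orderOf_dvd_natCard _ hgC
  by_cases heven : 2 ∣ orderOf g
  · left
    set s := g ^ (orderOf g / 2) with hsdef
    have hs : orderOf s = 2 := by
      have := orderOf_pow_orderOf_div (x := g) (orderOf_pos g).ne' heven
      exact this
    have hsx : s * x = x * s := (show Commute g x from hg).pow_left _
    rcases L.invol_cases hs with hz | hT
    · obtain ⟨h, hh⟩ := isConj_iff.1 hz.symm
      set x' := h * x * h⁻¹ with hx'
      set g' := h * g * h⁻¹ with hg'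
      have hg'C : g' ∈ Cz z := by
        rw [Loc.memC, ← hh]
        exact commute_conj h ((show Commute g s from (Commute.refl g).pow_right _).eq)
      have hx'C : x' ∈ Cz z := by
        rw [Loc.memC, ← hh]
        exact commute_conj h hsx.symm
      have hgx' : g' * x' = x' * g' := commute_conj h hg
      have hx'3 : orderOf x' = 3 := by rw [hx', CfsgLib.Invol.orderOf_conj_eq, D.x3]
      have hx'p : x' ^ 3 = 1 := orderOf_dvd_iff_pow_eq_one.1 hx'3.dvd
      have hxQ : x' ∉ Q := fun h => by
        have := Subgroup.orderOf_dvd_natCard Q h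
        rw [hx'3, L.frame.card] at this
        norm_num at this
      have hσ3 : π x' ^ 3 = 1 := by rw [← L.pi_pow hx'C, hx'p, L.pi_one]
      have hσ1 : π x' ≠ 1 := fun h => hxQ ((L.pi_ker _ hx'C).1 h)
      obtain ⟨i, hi⟩ : ∃ i : ℕ, π g' = π (x' ^ i) := by
        have hc : π g' * π x' = π x' * π g' := by
          rw [← L.pi_mul _ hg'C _ hx'C, hgx', L.pi_mul _ hx'C _ hg'C]
        rcases alt5_three_cent _ (L.pi_sign _ hx'C) hσ3 hσ1 _ (L.pi_sign _ hg'C) hc with e | e | e
        · exact ⟨0, by rw [e, pow_zero, L.pi_one]⟩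
        · exact ⟨1, by rw [e, pow_one]⟩
        · exact ⟨2, by rw [e, L.pi_pow hx'C, pow_two]⟩
      set q := g' * (x' ^ i)⁻¹ with hq
      have hqQ : q ∈ Q := L.mem_of_pi_eq hg'C (pow_mem hx'C i) hi
      have hq4 : q ^ 4 = 1 := by
        rw [show (4 : ℕ) = 2 * 2 from rfl, pow_mul]
        rcases L.frame.gen.square q hqQ with e | e
        · rw [pow_two q, e, one_pow]
        · rw [pow_two q, e, pow_two, L.zsq]
      have hcq : Commute q (x' ^ i) :=
        (Commute.mul_left (show Commute g' x' from hgx') ((Commute.refl x').pow_left i).inv_left).pow_right i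
      have h4 : g' ^ 4 = (x' ^ i) ^ 4 := by
        rw [show g' = q * x' ^ i by simp [hq], hcq.mul_pow, hq4, one_mul]
      refine Subgroup.mem_zpowers_iff.2 ⟨((i * 4 : ℕ) : ℤ), ?_⟩
      rw [zpow_natCast, pow_mul]
      have e1 : g' ^ 4 = h * g ^ 4 * h⁻¹ := by rw [hg', conj_pow]
      have e2 : (x' ^ i) ^ 4 = h * (x ^ i) ^ 4 * h⁻¹ := by rw [hx', conj_pow, conj_pow]
      rw [e1, e2] at h4
      exact (mul_left_cancel (mul_right_cancel h4)).symm
    · exfalso
      obtain ⟨h, hh⟩ := isConj_iff.1 (L.isT_isConj hT D.hT)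
      set x' := h * x * h⁻¹ with hx'
      have hx't : x' * t = t * x' := by rw [← hh]; exact commute_conj h hsx.symm
      have hx'3 : orderOf x' = 3 := by rw [hx', CfsgLib.Invol.orderOf_conj_eq, D.x3]
      obtain ⟨w, hw, m, hm, he⟩ := D.split.prod x' hx't
      have hw1 : w = 1 := by
        have hp : x' ^ 3 = 1 := orderOf_dvd_iff_pow_eq_one.1 hx'3.dvd
        rw [he, (show Commute w m from D.split.comm w hw m hm).mul_pow] at hp
        have h1 : w ^ 3 = w := by rw [pow_succ, pow_two, D.split.W_sq w hw, one_mul]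
        rw [h1] at hp
        exact D.split.inter w hw (eq_inv_of_mul_eq_one_left hp ▸ inv_mem (pow_mem hm 3))
      rw [hw1, one_mul] at he
      obtain ⟨h36, -, -⟩ := L.y_facts (x := x) (y := x')
        ⟨D.hT, D.split, D.zM, D.x3, D.xt, D.xN, D.xM, he.symm ▸ hm, hx'3⟩
      rw [hx', card_centralizer_conj] at h36
      omega
  · right
    have h135 : orderOf g ∣ 135 := by
      have hcop : Nat.Coprime (orderOf g) (2 ^ 3) :=
        Nat.Coprime.pow_right 3 (Nat.prime_two.coprime_iff_not_dvd.2 heven).symm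
      exact hcop.dvd_of_dvd_mul_left (by norm_num; exact hn)
    have h9 : ¬ 9 ∣ orderOf g := by
      intro h
      set c := g ^ (orderOf g / 9)
      have hc : orderOf c = 9 := orderOf_pow_orderOf_div (orderOf_pos g).ne' h
      obtain ⟨P, -, -, -, ⟨hexp, -⟩, -⟩ := L.three_main D
      obtain ⟨P', hP'⟩ := (IsPGroup.of_card (p := 3) (n := 2) (by rw [Nat.card_zpowers, hc]; norm_num) :
        IsPGroup 3 (Subgroup.zpowers c)).exists_le_sylow
      obtain ⟨k, hk⟩ := MulAction.exists_smul_eq G P' P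
      have hmem : k * c * k⁻¹ ∈ (P : Subgroup G) := hk ▸ ⟨c, hP' (Subgroup.mem_zpowers c), rfl⟩
      have h3 : (k * c * k⁻¹) ^ 3 = 1 := congrArg Subtype.val (hexp ⟨_, hmem⟩)
      have := orderOf_dvd_of_pow_eq_one h3
      rw [CfsgLib.Invol.orderOf_conj_eq, hc] at this
      norm_num at this
    have h15 : orderOf g ∣ 15 := by
      have hle : orderOf g ≤ 135 := Nat.le_of_dvd (by norm_num) h135
      generalize orderOf g = n at *
      revert h135 h9
      have : ∀ n < 136, n ∣ 135 → ¬ 9 ∣ n → n ∣ 15 := by decide +kernel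
      exact this n (by omega)
    have hg15 : g ^ 15 = 1 := orderOf_dvd_iff_pow_eq_one.1 h15
    by_cases hv : g ^ 3 = 1
    · left; rw [hv]; exact one_mem _
    right
    set v := g ^ 3
    set c := g ^ 5
    have hv5 : orderOf v = 5 := by
      haveI : Fact (Nat.Prime 5) := ⟨by norm_num⟩
      exact orderOf_eq_prime (by simp only [v]; rw [← pow_mul]; exact hg15) hv
    have hc3 : c ^ 3 = 1 := by simp only [c]; rw [← pow_mul]; exact hg15
    by_contra hcx
    have hcord : orderOf c = 3 := orderOf_eq_prime hc3 (fun e => hcx (e ▸ one_mem _))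
    have hcv : Commute c v := (Commute.refl g).pow_pow 5 3
    have hxv : Commute x v := (show Commute x g from hg.symm).pow_right 3
    have hxc : Commute c x := (show Commute g x from hg).pow_left 5
    let φ : Subgroup.zpowers c × Subgroup.zpowers x →* G :=
      MonoidHom.noncommCoprod (Subgroup.zpowers c).subtype (Subgroup.zpowers x).subtype (by
        rintro ⟨m, hm⟩ ⟨n, hn⟩
        obtain ⟨i, rfl⟩ := Subgroup.mem_zpowers_iff.1 hm
        obtain ⟨j, rfl⟩ := Subgroup.mem_zpowers_iff.1 hn
        exact hxc.zpow_zpow i j)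
    have hφ : Function.Injective φ := by
      rw [injective_iff_map_eq_one]
      rintro ⟨⟨m, hm⟩, ⟨n, hn⟩⟩ h
      have h' : m * n = 1 := h
      have hmx : m ∈ Subgroup.zpowers x := eq_inv_of_mul_eq_one_left h' ▸ inv_mem hn
      have hm1 : m = 1 := by
        by_contra hne
        exact hcx ((zpowers_eq_of_mem Nat.prime_three D.x3 hmx hne) ▸
          (zpowers_eq_of_mem Nat.prime_three hcord hm hne).symm ▸ Subgroup.mem_zpowers c)
      subst hm1
      rw [one_mul] at h'
      subst h'
      rfl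
    have hrange : φ.range ≤ Subgroup.centralizer ({v} : Set G) := by
      rintro _ ⟨⟨⟨m, hm⟩, ⟨n, hn⟩⟩, rfl⟩
      rw [Subgroup.mem_centralizer_singleton_iff]
      obtain ⟨i, rfl⟩ := Subgroup.mem_zpowers_iff.1 hm
      obtain ⟨j, rfl⟩ := Subgroup.mem_zpowers_iff.1 hn
      exact ((hcv.zpow_left i).mul_left (hxv.zpow_left j)).eq
    have h9' := Subgroup.card_dvd_of_le hrange
    rw [← Nat.card_congr (MonoidHom.ofInjective hφ).toEquiv, Nat.card_prod, Nat.card_zpowers,
      Nat.card_zpowers, hcord, D.x3] at h9'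
    rcases L.five_cases hv5 with e | e <;> rw [e] at h9' <;> norm_num at h9'

end CfsgLib.J2U
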