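import Cfsg.Agent.J2U.Words
import Cfsg.Agent.J2U.CentX

/-!
Normalised generators of the centraliser of the involution, and an element of order three that moves it.
-/

set_option autoImplicit false
set_option linter.style.haveILetI false
set_option maxRecDepth 100000

namespace CfsgLib.J2U

open CfsgLib.Coset CfsgLib.HJT

variable {G : Type*} [Group G]

/-- The data from which the group is recognised. -/
structure Base (z : G) (b : Fin 5 → G) (S w x y : G) (M : Subgroup G) : Prop where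
  cardG : Nat.card G = 604800
  relC : ∀ u ∈ relsC, ev (LCof z b S w x) u = 1
  gen : Subgroup.closure {v | v ∈ LCof z b S w x} = Subgroup.centralizer ({z} : Set G)
  cardC : Nat.card (Subgroup.centralizer ({z} : Set G)) = 1920
  zne : z ≠ 1
  bne : b 0 ≠ z
  x3 : orderOf x = 3
  y3 : y ^ 3 = 1
  yx : y * x = x * y
  yw : y * w = w * y
  yz : y * z * y⁻¹ = b 0
  yb : y * b 0 * y⁻¹ = z * b 0
  zM : z ∈ M
  bM : b 0 ∈ M
  yM : y ∈ M
  isoM : Nonempty (M ≃* alternatingGroup (Fin 5))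
  xM : ∀ m ∈ M, x * m = m * x
  wM : ∀ m ∈ M, w * m = m * w
  cardX : Nat.card (Subgroup.centralizer ({x} : Set G)) = 1080
  spec : ∀ g : G, g * x = x * g →
    g ^ 4 ∈ Subgroup.zpowers x ∨ g ^ 3 ∈ Subgroup.zpowers x ∨ g ^ 5 ∈ Subgroup.zpowers x

theorem sum_sing : ∑ j : Fin 5, sing j = (0 : V5) := by decide

theorem eps_sum : ∀ e : Fin 5 → ZMod 2, Ev e → e 0 + e 1 + e 2 + e 3 + e 4 = 0 := by decide

/-- The involution of a four-group which is the product of two others. -/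
theorem klein_eq {W : Subgroup G} [Finite W] (hcard : Nat.card W = 4) (hsq : ∀ v ∈ W, v * v = 1)
    {p q r : G} (hp : p ∈ W) (hq : q ∈ W) (hr : r ∈ W) (hp1 : p ≠ 1) (hq1 : q ≠ 1) (hr1 : r ≠ 1)
    (hpq : p ≠ q) (hpr : p ≠ r) (hqr : q ≠ r) : r = p * q := by
  classical
  haveI := Fintype.ofFinite W
  by_contra hne
  have hpq1 : p * q ≠ 1 := fun e =>
    hpq ((eq_inv_of_mul_eq_one_left e).trans (inv_eq_of_mul_eq_one_right (hsq q hq)))
  let S : Finset W := {1, ⟨p, hp⟩, ⟨q, hq⟩, ⟨r, hr⟩, ⟨p * q, mul_mem hp hq⟩}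
  have h5 : S.card = 5 := by
    have e1 : p * q ≠ p := fun e => hq1 (mul_eq_left.1 e)
    have e2 : p * q ≠ q := fun e => hp1 (mul_eq_right.1 e)
    have e0 : ∀ (v : G) (hv : v ∈ W), v ≠ 1 → (1 : W) ≠ ⟨v, hv⟩ := fun v hv hv1 e =>
      hv1 (congrArg Subtype.val e).symm
    simp [S, Finset.card_insert_of_notMem, e0, hp1, hq1, hr1, hpq1, hpq, hpr, hqr, e1.symm, e2.symm,
      hne]
  have := Finset.card_le_univ S
  rw [h5, ← Nat.card_eq_fintype_card, hcard] at this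
  omega

variable [Finite G] {z : G} {Q : Subgroup G} {a : Fin 5 → G} {π : G → Equiv.Perm (Fin 5)}

/-- An element fixing five involutions of a frame is central. -/
theorem central_of_fix (L : Loc z Q a π) {b : Fin 5 → G} {ι : Equiv.Perm (Fin 5)} (hbQ : ∀ j, b j ∈ Q)
    (hψ : ∀ j, Frame.psi a (b j) = sing (ι j)) {c : G} (hc : c ∈ Cz z)
    (hfix : ∀ j, c * b j * c⁻¹ = b j) : c = 1 ∨ c = z := by
  have hπ : π c = 1 := by
    ext1 i
    obtain ⟨j, rfl⟩ := ι.surjective i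
    refine sing_inj _ _ ?_
    have h := L.psi_conj hc (hbQ j)
    rw [hfix, hψ, act_sing] at h
    exact h.symm
  have hQc : c ∈ Q := (L.pi_ker c hc).1 hπ
  refine L.frame.gen.center_iff c hQc fun q hq => ?_
  have hmem : q ∈ Subgroup.centralizer ({c} : Set G) := by
    refine L.frame.mem_of_gens (Subgroup.mem_centralizer_singleton_iff.2 (Loc.memC.1 hc).symm) (fun i => ?_) hq
    obtain ⟨j, rfl⟩ := ι.surjective i
    have hb : b j * c = c * b j := (mul_inv_eq_iff_eq_mul.1 (hfix j)).symm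
    rcases L.frame.eq_or_of_psi_eq (hbQ j) (L.frame.mem (ι j)) ((hψ j).trans (L.frame.psi_a _).symm) with e | e
    · exact Subgroup.mem_centralizer_singleton_iff.2 (e ▸ hb)
    · have h2 : a (ι j) = z * b j := by rw [e, ← mul_assoc, L.zsq, one_mul]
      rw [Subgroup.mem_centralizer_singleton_iff, h2, mul_assoc, hb, ← mul_assoc, ← Loc.memC.1 hc, mul_assoc]
  exact (Subgroup.mem_centralizer_singleton_iff.1 hmem).symm

set_option maxHeartbeats 2000000 in
theorem exists_base (L : Loc z Q a π) : ∃ b S w x y M, Base z b S w x y M := by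
  classical
  haveI : Fact (Nat.Prime 3) := ⟨Nat.prime_three⟩
  have hgen := L.frame.gen
  obtain ⟨t, ht, hT⟩ := L.exists_isT
  obtain ⟨W, M, f₀, y₀, T, h60, hA⟩ := L.exists_tstr ht hT
  have SP := L.split_of_tstr T hA hT
  obtain ⟨x, hx3, hxt, hxN, hxM⟩ := SP.exists_x
  have hxord : orderOf x = 3 := orderOf_eq_prime hx3 fun e => hxt (by rw [e]; simp)
  have hy₀1 : y₀ ≠ 1 := fun e => T.dec.f_ne (by
    have := T.dec.y_z; rw [e] at this; simpa using this.symm)
  have D : ThreeData z t W M x y₀ :=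
    ⟨hT, SP, T.dec.z_mem, hxord, hxt, hxN, hxM, T.dec.y_mem, orderOf_eq_prime T.dec.y_three hy₀1⟩
  have hxC : x ∈ Cz z := x_mem_cz L D
  have ht2 : t * t = 1 := (orderOf_two_iff.1 hT.1).1
  have htQ : t ∉ Q := ((L.isT_iff ht).1 hT).2
  have hfC : f₀ ∈ Cz z := Loc.memC.2 T.dec.f_z
  have hf2 : orderOf f₀ = 2 := L.ztype_ord T.dec.f_conj
  have hfQ : f₀ ∈ Q := (L.conj_z_iff hfC hf2).1 T.dec.f_conj
  have hff : f₀ * f₀ = 1 := (orderOf_two_iff.1 hf2).1
  have hf1 : f₀ ≠ 1 := (orderOf_two_iff.1 hf2).2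
  obtain ⟨k, hk⟩ : ∃ k, Frame.psi a f₀ = sing k := by
    rcases L.frame.invol_cases hfQ hff with e | e | ⟨k, e | e⟩
    · exact absurd e hf1
    · exact absurd e T.dec.f_ne
    · exact ⟨k, by rw [e, L.frame.psi_a]⟩
    · exact ⟨k, by rw [e, L.frame.psi_mul hgen.mem (L.frame.mem k), L.psi_z, zero_add, L.frame.psi_a]⟩
  -- the underlying permutations
  have hpsic : ∀ {c u : G} {i : Fin 5}, c ∈ Cz z → u ∈ Q → Frame.psi a u = sing i →
      Frame.psi a (c * u * c⁻¹) = sing (π c i) := fun {c u i} hc hu h => by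
    rw [L.psi_conj hc hu, h, act_sing]
  have hπk : ∀ {c : G}, c ∈ Cz z → c * f₀ = f₀ * c → π c k = k := fun {c} hc h => by
    have := hpsic hc hfQ hk
    rw [mul_inv_eq_iff_eq_mul.2 h, hk] at this
    exact (sing_inj _ _ this).symm
  have hxf : x * f₀ = f₀ * x := hxM _ T.dec.f_mem
  have htf : t * f₀ = f₀ * t := T.dec.W_f t T.dec.t_mem
  have hxQ : x ∉ Q := fun h => by
    have := Subgroup.orderOf_dvd_natCard Q h
    rw [hxord, L.frame.card] at this
    norm_num at this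
  obtain ⟨i, l, hσl, hτi, hdist⟩ := cycle_data (π x) (L.pi_sign x hxC)
    (by rw [← L.pi_pow hxC, hx3, L.pi_one]) (fun h => hxQ ((L.pi_ker x hxC).1 h))
    (π t) (L.pi_invol ht htQ (ht2 ▸ one_mem Q)) k (hπk hxC hxf) (hπk ht htf)
  -- the four moved involutions
  set b₁ := a i with hb₁
  set b₂ := x * b₁ * x⁻¹ with hb₂
  set b₃ := x * b₂ * x⁻¹ with hb₃
  set b₄ := t * b₁ * t⁻¹ with hb₄
  let ιf : Fin 5 → Fin 5 := ![k, i, π x i, π x (π x i), l]
  have hιinj : Function.Injective ιf := by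
    intro p q hpq
    by_contra hne
    refine hdist p q hne ?_
    fin_cases p <;> fin_cases q <;> simpa [ιf] using hpq
  let ι : Equiv.Perm (Fin 5) := Equiv.ofBijective ιf (Finite.injective_iff_bijective.1 hιinj)
  have hb₁Q : b₁ ∈ Q := L.frame.mem i
  have hb₂Q : b₂ ∈ Q := L.norm x hxC _ hb₁Q
  have hb₃Q : b₃ ∈ Q := L.norm x hxC _ hb₂Q
  have hb₄Q : b₄ ∈ Q := L.norm t ht _ hb₁Q
  have p₁ : Frame.psi a b₁ = sing i := L.frame.psi_a i
  have p₂ : Frame.psi a b₂ = sing (π x i) := hpsic hxC hb₁Q p₁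
  have p₃ : Frame.psi a b₃ = sing (π x (π x i)) := hpsic hxC hb₂Q p₂
  have p₄ : Frame.psi a b₄ = sing l := by rw [← hτi]; exact hpsic ht hb₁Q p₁
  -- the fixed involution and the element of order three, normalised by the product of all five
  obtain ⟨f, y, hfQ', hff', hfne, hfM, hfW, hψf, hyM, hy3, hyz, hyf, hyW, hprod⟩ :
      ∃ f y : G, f ∈ Q ∧ f * f = 1 ∧ f ≠ z ∧ f ∈ M ∧ (∀ v ∈ W, v * f = f * v) ∧
        Frame.psi a f = sing k ∧ y ∈ M ∧ y ^ 3 = 1 ∧ y * z * y⁻¹ = f ∧ y * f * y⁻¹ = z * f ∧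
        (∀ v ∈ W, v * y = y * v) ∧ f * b₁ * b₂ * b₃ * b₄ = z := by
    have h0 : Frame.psi a (f₀ * b₁ * b₂ * b₃ * b₄) = 0 := by
      rw [L.frame.psi_mul (mul_mem (mul_mem (mul_mem hfQ hb₁Q) hb₂Q) hb₃Q) hb₄Q,
        L.frame.psi_mul (mul_mem (mul_mem hfQ hb₁Q) hb₂Q) hb₃Q,
        L.frame.psi_mul (mul_mem hfQ hb₁Q) hb₂Q, L.frame.psi_mul hfQ hb₁Q, hk, p₁, p₂, p₃, p₄]
      calc _ = ∑ j : Fin 5, sing (ι j) := by rw [Fin.sum_univ_five]; rfl
        _ = ∑ j : Fin 5, sing j := Equiv.sum_comp ι sing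
        _ = 0 := sum_sing
    rcases L.frame.psi_eq_zero (mul_mem (mul_mem (mul_mem (mul_mem hfQ hb₁Q) hb₂Q) hb₃Q) hb₄Q) h0 with h | h
    · refine ⟨z * f₀, y₀⁻¹, mul_mem hgen.mem hfQ, ?_, fun e => hf1 (mul_eq_left.1 e),
        mul_mem T.dec.z_mem T.dec.f_mem, fun v hv => ?_, ?_, inv_mem T.dec.y_mem, ?_, ?_, ?_, fun v hv => ?_, ?_⟩
      · rw [show z * f₀ * (z * f₀) = z * (f₀ * z) * f₀ by group, T.dec.f_z, ← mul_assoc, L.zsq, one_mul, hff]
      · exact ((show Commute v z from T.comm v hv z T.dec.z_mem).mul_right (T.dec.W_f v hv)).eq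
      · rw [L.frame.psi_mul hgen.mem hfQ, L.psi_z, zero_add, hk]
      · rw [inv_pow, T.dec.y_three, inv_one]
      · have := T.dec.y_f
        calc y₀⁻¹ * z * y₀⁻¹⁻¹ = y₀⁻¹ * ((y₀ * f₀ * y₀⁻¹) * f₀⁻¹) * y₀ := by rw [this]; group
          _ = f₀ * (y₀⁻¹ * f₀⁻¹ * y₀) := by group
          _ = _ := by
            have hz : y₀⁻¹ * f₀ * y₀ = z := by rw [← T.dec.y_z]; group
            rw [show y₀⁻¹ * f₀⁻¹ * y₀ = (y₀⁻¹ * f₀ * y₀)⁻¹ by group, hz,
              inv_eq_of_mul_eq_one_right L.zsq, T.dec.f_z]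
      · rw [← T.dec.y_f]
        calc y₀⁻¹ * (y₀ * f₀ * y₀⁻¹) * y₀⁻¹⁻¹ = f₀ := by group
          _ = z * (y₀ * f₀ * y₀⁻¹) := by rw [T.dec.y_f, ← mul_assoc, L.zsq, one_mul]
      · exact ((show Commute v y₀ from T.dec.W_y v hv).inv_right).eq
      · rw [show z * f₀ * b₁ * b₂ * b₃ * b₄ = z * (f₀ * b₁ * b₂ * b₃ * b₄) by group, h, mul_one]
    · exact ⟨f₀, y₀, hfQ, hff, T.dec.f_ne, T.dec.f_mem, T.dec.W_f, hk, T.dec.y_mem, T.dec.y_three,
        T.dec.y_z, T.dec.y_f, T.dec.W_y, h⟩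
  let b : Fin 5 → G := ![f, b₁, b₂, b₃, b₄]
  have hbQ : ∀ j, b j ∈ Q := by intro j; fin_cases j <;> simp [b, hfQ', hb₁Q, hb₂Q, hb₃Q, hb₄Q]
  have hψ : ∀ j, Frame.psi a (b j) = sing (ι j) := by
    intro j; fin_cases j <;> simp [b, ι, ιf, hψf, p₁, p₂, p₃, p₄]
  have hsqc : ∀ (c : G) (u : G), u * u = 1 → (c * u * c⁻¹) * (c * u * c⁻¹) = 1 := fun c u h => by
    rw [show c * u * c⁻¹ * (c * u * c⁻¹) = c * (u * u) * c⁻¹ by group, h]; group
  have hb2 : ∀ j, b j * b j = 1 := by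
    have h1 : b₁ * b₁ = 1 := L.frame.invol i
    intro j
    fin_cases j
    · exact hff'
    · exact h1
    · exact hsqc _ _ h1
    · exact hsqc _ _ (hsqc _ _ h1)
    · exact hsqc _ _ h1
  have hcb : ∀ p q, p ≠ q → cb (b p) (b q) = 1 := fun p q hpq => by
    rw [L.frame.cb_eq_dot (hbQ p) (hbQ q), hψ, hψ]
    exact (sing_add_not _ _ fun e => hpq (ι.injective e)).2
  have hswap : ∀ p q, p ≠ q → b p * b q = z * (b q * b p) := fun p q hpq => by
    have := cb_spec hgen (hbQ p) (hbQ q)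
    rwa [hcb p q hpq, zp_one] at this
  -- the four-group
  set u₁ := x * t * x⁻¹ with hu₁
  set w := x * u₁ * x⁻¹ with hw
  have hxW : ∀ v ∈ W, x * v * x⁻¹ ∈ W := fun v hv =>
    (Subgroup.mem_normalizer_iff.1 hxN v).1 hv
  have hu₁W : u₁ ∈ W := hxW t T.dec.t_mem
  have hwW : w ∈ W := hxW u₁ hu₁W
  have hconj1 : ∀ {v : G}, v ≠ 1 → x * v * x⁻¹ ≠ 1 := fun {v} hv e =>
    hv (mul_eq_left.1 (mul_inv_eq_one.1 e))
  have ht1 : t ≠ 1 := SP.t_ne
  have hxwt : x * w * x⁻¹ = t := by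
    rw [hw, hu₁, show x * (x * (x * t * x⁻¹) * x⁻¹) * x⁻¹ = x ^ 3 * t * (x ^ 3)⁻¹ by simp [pow_succ, mul_assoc], hx3]; group
  have htu : t ≠ u₁ := fun e => hxt ((mul_inv_eq_iff_eq_mul.1 e.symm))
  have huw : u₁ ≠ w := fun e => htu (by
    have := congrArg (fun v => x⁻¹ * v * x) e
    simpa [hw, hu₁, mul_assoc] using this)
  have htw : t ≠ w := fun e => htu (by
    have := congrArg (fun v => x * v * x⁻¹) e
    rw [hxwt] at this; exact this.symm)
  have hw_eq : w = t * u₁ := klein_eq SP.W_card SP.W_sq T.dec.t_mem hu₁W hwW ht1 (hconj1 ht1)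
    (hconj1 (hconj1 ht1)) htu htw huw
  have hw2 : w * w = 1 := SP.W_sq w hwW
  have hu2 : u₁ * u₁ = 1 := SP.W_sq u₁ hu₁W
  have winv : w⁻¹ = w := inv_eq_of_mul_eq_one_right hw2
  have tinv : t⁻¹ = t := inv_eq_of_mul_eq_one_right ht2
  have uinv : u₁⁻¹ = u₁ := inv_eq_of_mul_eq_one_right hu2
  -- the action
  have hWC : ∀ v ∈ W, v ∈ Cz z := fun v hv => T.dec.W_z hv
  have hwC := hWC w hwW
  have hxz : x * z * x⁻¹ = z := L.conj_z hxC
  have ax4 : x * b₄ * x⁻¹ = b₄ := by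
    rcases L.frame.eq_or_of_psi_eq (L.norm x hxC _ hb₄Q) hb₄Q
      (by rw [hpsic hxC hb₄Q p₄, hσl, p₄]) with e | e
    · exact e
    · exfalso
      have h3 : x ^ 3 * b₄ * (x ^ 3)⁻¹ = z * b₄ := by
        rw [show x ^ 3 * b₄ * (x ^ 3)⁻¹ = x * (x * (x * b₄ * x⁻¹) * x⁻¹) * x⁻¹ by simp [pow_succ, mul_assoc], e,
          L.conj_zmul hxC, e, ← mul_assoc z z, L.zsq, one_mul, e]
      rw [hx3] at h3
      simp at h3
      exact L.zne h3
  have ax3 : x * b₃ * x⁻¹ = b₁ := by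
    rw [hb₃, hb₂, show x * (x * (x * b₁ * x⁻¹) * x⁻¹) * x⁻¹ = x ^ 3 * b₁ * (x ^ 3)⁻¹ by simp [pow_succ, mul_assoc], hx3]; group
  have aw4 : w * b₃ * w⁻¹ = b₄ := by
    have h1 : u₁ * b₂ * u₁⁻¹ = b₄ := by
      rw [hu₁, hb₂, show x * t * x⁻¹ * (x * b₁ * x⁻¹) * (x * t * x⁻¹)⁻¹ = x * (t * b₁ * t⁻¹) * x⁻¹ by group,
        ← hb₄, ax4]
    rw [hw, hb₃, show x * u₁ * x⁻¹ * (x * b₂ * x⁻¹) * (x * u₁ * x⁻¹)⁻¹ = x * (u₁ * b₂ * u₁⁻¹) * x⁻¹ by group,
      h1, ax4]
  have aw1 : w * b₁ * w⁻¹ = b₂ := by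
    have hcomm : t * u₁ = u₁ * t := SP.W_comm T.dec.t_mem hu₁W
    have h1 : u₁ * b₂ * u₁⁻¹ = b₄ := by
      rw [hu₁, hb₂, show x * t * x⁻¹ * (x * b₁ * x⁻¹) * (x * t * x⁻¹)⁻¹ = x * (t * b₁ * t⁻¹) * x⁻¹ by group,
        ← hb₄, ax4]
    rw [hw_eq, hcomm, show u₁ * t * b₁ * (u₁ * t)⁻¹ = u₁ * (t * b₁ * t⁻¹) * u₁⁻¹ by group, ← hb₄, ← h1,
      conj_assoc, hu2]; group
  have hconj_f : ∀ c : G, c * f = f * c → c * f * c⁻¹ = f := fun c h => mul_inv_eq_iff_eq_mul.2 h
  have actx : ∀ j, x * b j * x⁻¹ = b (σR j) := by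
    obtain ⟨-, -, -, -, -, -, -, -, -, -, r0, r1, r2, r3, r4⟩ := perm_table
    intro j
    fin_cases j
    · simpa [r0, b] using hconj_f x (hxM f hfM)
    · simp [r1, b, hb₂]
    · simp [r2, b, hb₃]
    · simpa [r3, b] using ax3
    · simpa [r4, b] using ax4
  have actw : ∀ j, w * b j * w⁻¹ = b (σW j) := by
    obtain ⟨-, -, -, -, -, w0, w1, w2, w3, w4, -⟩ := perm_table
    intro j
    fin_cases j
    · simpa [w0, b] using hconj_f w (hfW w hwW)
    · simpa [w1, b] using aw1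
    · show w * b₂ * w⁻¹ = b (σW 2)
      rw [w2]
      show w * b₂ * w⁻¹ = b₁
      rw [← aw1, conj_assoc, hw2]; group
    · simpa [w3, b] using aw4
    · show w * b₄ * w⁻¹ = b (σW 4)
      rw [w4]
      show w * b₄ * w⁻¹ = b₃
      rw [← aw4, conj_assoc, hw2]; group
  -- the involution `S`
  obtain ⟨S₀, hS₀C, hS₀a⟩ : ∃ S₀ ∈ Cz z, ∀ j, S₀ * b j * S₀⁻¹ = b (σS j) := by
    have hsgn : Equiv.Perm.sign (ι * σS * ι⁻¹) = 1 := by
      rw [map_mul, map_mul, map_inv, sign_σS]; simp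
    obtain ⟨c, hc, hcπ⟩ := L.pi_surj _ hsgn
    have hcj : ∀ j, ∃ e : ZMod 2, c * b j * c⁻¹ = zp z e * b (σS j) := by
      intro j
      rcases L.frame.eq_or_of_psi_eq (L.norm c hc _ (hbQ j)) (hbQ (σS j))
        (by rw [hpsic hc (hbQ j) (hψ j), hψ, hcπ]; simp) with e | e
      · exact ⟨0, by rw [e, zp_zero, one_mul]⟩
      · exact ⟨1, by rw [e, zp_one]⟩
    choose ε hε using hcj
    have key : ∀ (u : G) (s s' : ZMod 2) (p : Fin 5), u ∈ Q →
        zp z s * u * (zp z s' * b p) = zp z (s + s') * (u * b p) := fun u s s' p hu => by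
      calc zp z s * u * (zp z s' * b p) = zp z s * (u * zp z s') * b p := by group
        _ = _ := by rw [zp_comm hgen hu, zp_add L.zsq]; group
    have hsum : ε 0 + ε 1 + ε 2 + ε 3 + ε 4 = 0 := by
      obtain ⟨s0, s1, s2, s3, s4, -⟩ := perm_table
      have hP : b 0 * b 1 * b 2 * b 3 * b 4 = z := by simpa [b] using hprod
      have h1 : c * (b 0 * b 1 * b 2 * b 3 * b 4) * c⁻¹ = z := by rw [hP, L.conj_z hc]
      rw [show c * (b 0 * b 1 * b 2 * b 3 * b 4) * c⁻¹ = (c * b 0 * c⁻¹) * (c * b 1 * c⁻¹) *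
        (c * b 2 * c⁻¹) * (c * b 3 * c⁻¹) * (c * b 4 * c⁻¹) by group, hε, hε, hε, hε, hε, s0, s1, s2, s3, s4,
        key _ _ _ _ (hbQ 1), key _ _ _ _ (mul_mem (hbQ 1) (hbQ 0)),
        key _ _ _ _ (mul_mem (mul_mem (hbQ 1) (hbQ 0)) (hbQ 2)),
        key _ _ _ _ (mul_mem (mul_mem (mul_mem (hbQ 1) (hbQ 0)) (hbQ 2)) (hbQ 4))] at h1
      have hre : b 1 * b 0 * b 2 * b 4 * b 3 = z := by
        have hm : b 0 * b 1 * b 2 ∈ Q := mul_mem (mul_mem (hbQ 0) (hbQ 1)) (hbQ 2)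
        calc b 1 * b 0 * b 2 * b 4 * b 3 = z * (b 0 * b 1) * b 2 * (b 4 * b 3) := by
              rw [← hswap 1 0 (by decide)]; group
          _ = z * (b 0 * b 1) * b 2 * (z * (b 3 * b 4)) := by rw [hswap 4 3 (by decide)]
          _ = z * ((b 0 * b 1 * b 2) * z) * (b 3 * b 4) := by group
          _ = z * (z * (b 0 * b 1 * b 2)) * (b 3 * b 4) := by rw [(hgen.comm_z _ hm).eq]
          _ = b 0 * b 1 * b 2 * b 3 * b 4 := by rw [← mul_assoc z z, L.zsq]; group
          _ = z := hP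
      rw [hre] at h1
      exact zp_inj L.zne ((mul_eq_right.1 h1).trans (zp_zero z).symm)
    let v : V5 := fun p => ε (σS⁻¹ (ι⁻¹ p))
    have hv : Ev v := by
      show ∑ p, v p = 0
      have : ∑ p, v p = ∑ j, ε j := Equiv.sum_comp (σS⁻¹ * ι⁻¹) ε
      rw [this, Fin.sum_univ_five]; exact hsum
    obtain ⟨q, hq, hqv⟩ := L.frame.psi_surj le_rfl L.frame.mem hv
    have hqb : ∀ j, q * b (σS j) * q⁻¹ = zp z (ε j) * b (σS j) := by
      intro j
      have h1 : cb q (b (σS j)) = ε j := by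
        rw [cb_comm, L.frame.cb_eq_dot (hbQ _) hq, hψ, hqv, dot_sing v hv]
        simp [v]
      rw [cb_spec hgen hq (hbQ _), h1]; group
    refine ⟨q * c, mul_mem (L.le hq) hc, fun j => ?_⟩
    rw [← conj_assoc, hε, show q * (zp z (ε j) * b (σS j)) * q⁻¹ =
      (q * zp z (ε j)) * b (σS j) * q⁻¹ by group, zp_comm hgen hq, mul_assoc, mul_assoc,
      ← mul_assoc q, hqb, ← mul_assoc, ← zp_add L.zsq, CharTwo.add_self_eq_zero, zp_zero, one_mul]
  have hσS2 : ∀ j, σS (σS j) = j := by decide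
  have hS₀2 : S₀ * S₀ = 1 := by
    have hc : S₀ * S₀ ∈ Cz z := mul_mem hS₀C hS₀C
    have hQn : S₀ ∉ Q := fun h => by
      have h0 := hpsic hS₀C (hbQ 0) (hψ 0)
      rw [(L.pi_ker S₀ hS₀C).2 h, hS₀a, hψ, perm_table.1] at h0
      have h1 := sing_inj _ _ h0
      rw [Equiv.Perm.one_apply] at h1
      exact absurd (ι.injective h1) (by decide)
    exact L.sq_lemma hS₀C hQn (central_of_fix L hbQ hψ hc fun j => by
      rw [← conj_assoc, hS₀a, hS₀a, hσS2])
  have hzcomm : ∀ c ∈ Cz z, z * c = c * z := fun c hc => (Loc.memC.1 hc).symm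
  have hbC : ∀ j, b j ∈ Cz z := fun j => L.le (hbQ j)
  have hzb : ∀ j, z * b j * z⁻¹ = b j := fun j => mul_inv_eq_iff_eq_mul.2 (hzcomm _ (hbC j))
  obtain ⟨S, hSC, hS2, hSa, hS5⟩ : ∃ S ∈ Cz z, S * S = 1 ∧ (∀ j, S * b j * S⁻¹ = b (σS j)) ∧
      (S * x) ^ 5 = 1 := by
    have hperm : ∀ j, (permW [5, 7, 5, 7, 5, 7, 5, 7, 5, 7]) j = j := by decide
    have A : Act z b S₀ w x := ⟨hzb, hS₀a, actw, actx⟩
    have hev : ev (LCof z b S₀ w x) [5, 7, 5, 7, 5, 7, 5, 7, 5, 7] = (S₀ * x) ^ 5 := by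
      simp [LCof, fl, pow_succ, mul_assoc]
    have h := central_of_fix L hbQ hψ (c := (S₀ * x) ^ 5) (pow_mem (mul_mem hS₀C hxC) 5) fun j => by
      rw [← hev, A.conj_word _ (by simp) j, hperm]
    rcases h with h | h
    · exact ⟨S₀, hS₀C, hS₀2, hS₀a, h⟩
    · refine ⟨z * S₀, mul_mem (Loc.memC.2 rfl) hS₀C, ?_, fun j => ?_, ?_⟩
      · rw [show z * S₀ * (z * S₀) = z * (S₀ * z) * S₀ by group, ← hzcomm S₀ hS₀C,
          ← mul_assoc, L.zsq, one_mul, hS₀2]
      · rw [← conj_assoc, hS₀a, hzb]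
      · rw [mul_assoc, (show Commute z (S₀ * x) from hzcomm _ (mul_mem hS₀C hxC)).mul_pow, h,
          show z ^ 5 = z * z * (z * z) * z by simp [pow_succ, mul_assoc], L.zsq]
        simp [L.zsq]
  have A : Act z b S w x := ⟨hzb, hSa, actw, actx⟩
  have hxw3 : x * w * (x * w) * (x * w) = 1 := by
    calc x * w * (x * w) * (x * w) = (x * w * x⁻¹) * (x * (x * w * x⁻¹) * x⁻¹) * (x * (x * (x * w * x⁻¹) * x⁻¹) * x⁻¹) * x ^ 3 := by group
      _ = t * u₁ * w := by rw [hxwt, hx3, mul_one, ← hu₁, ← hw]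
      _ = 1 := by rw [← hw_eq]; exact hw2
  have hxxx : x * x * x = 1 := by rw [← hx3]; simp [pow_succ, mul_assoc]
  -- the word for `w`
  have hword : ev (LCof z b S w x) [6, 8, 5, 8, 5, 7, 5, 7] = 1 := by
    set d := ev (LCof z b S w x) [6, 8, 5, 8, 5, 7, 5, 7] with hd
    have hperm : ∀ j, (permW [6, 8, 5, 8, 5, 7, 5, 7]) j = j := by decide
    have hev : d = w * ev (LAof S x) [2, 0, 2, 0, 1, 0, 1] := by simp [hd, LCof, LAof, fl]
    set u := ev (LAof S x) [2, 0, 2, 0, 1, 0, 1] with hu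
    have huC : u ∈ Cz z := by
      simp only [hu, LAof, fl, ev_cons, ev_nil, mul_one, List.getD_eq_getElem?_getD, List.getElem?_cons_succ,
        List.getElem?_cons_zero, Option.getD_some]
      exact mul_mem (inv_mem hxC) (mul_mem hSC (mul_mem (inv_mem hxC) (mul_mem hSC (mul_mem hxC (mul_mem hSC hxC)))))
    have hwu : w * u ∈ Cz z := mul_mem hwC huC
    rcases central_of_fix L hbQ hψ (c := d) (hev ▸ hwu) (fun j => by
      rw [hd, A.conj_word _ (by simp) j, hperm]) with h | h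
    · exact h
    · exfalso
      have hu3 : x * u⁻¹ * (x * u⁻¹) * (x * u⁻¹) = 1 := by
        have hcalc : ev (LAof S x) [1, 2, 0, 2, 0, 1, 0, 1, 1, 2, 0, 2, 0, 1, 0, 1, 1, 2, 0, 2, 0, 1, 0, 1] = 1 :=
          (ev_eq_of_sameT (tableA hS2 hxxx hS5) (by norm_num) (show (LAof S x).length = 3 from rfl)
            (v := []) (by decide +kernel)).trans (ev_nil _)
        have hui : u⁻¹ = ev (LAof S x) [2, 0, 2, 0, 1, 0, 1] := by
          simp [hu, LAof, fl, inv_eq_of_mul_eq_one_right hS2, mul_assoc]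
        rw [hui]
        simpa [LAof, fl, mul_assoc] using hcalc
      have hwz : w = z * u⁻¹ := by rw [← h, hev]; group
      have hcx : Commute z x := hzcomm x hxC
      have hcu : Commute z (x * u⁻¹) := hzcomm _ (mul_mem hxC (inv_mem huC))
      rw [hwz, ← mul_assoc x z, ← hcx.eq, mul_assoc z x] at hxw3
      apply L.zne
      calc z = z ^ 3 * ((x * u⁻¹) ^ 3) := by
            rw [show (x * u⁻¹) ^ 3 = 1 by rw [← hu3]; simp [pow_succ, mul_assoc],
              mul_one, pow_succ, pow_two, L.zsq, one_mul]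
        _ = (z * (x * u⁻¹)) ^ 3 := (hcu.mul_pow 3).symm
        _ = 1 := by rw [← hxw3]; simp [pow_succ, mul_assoc]
  have hrel : ∀ u ∈ relsC, ev (LCof z b S w x) u = 1 := by
    have hP : b 0 * b 1 * b 2 * b 3 * b 4 = z := by simpa [b] using hprod
    have hzz := L.zsq
    have hzc : ∀ c ∈ Cz z, z * (c * (z * c⁻¹)) = 1 := fun c hc => by
      rw [← mul_assoc c, ← hzcomm c hc, mul_assoc, mul_inv_cancel, mul_one, hzz]
    have binv : ∀ j, (b j)⁻¹ = b j := fun j => inv_eq_of_mul_eq_one_right (hb2 j)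
    have Sinv : S⁻¹ = S := inv_eq_of_mul_eq_one_right hS2
    have hz2 : ∀ p q, p ≠ q → b p * (b q * (b p * (b q * z))) = 1 := fun p q hpq => by
      calc b p * (b q * (b p * (b q * z))) = (b p * b q) * (b p * b q) * z := by group
        _ = z * (b q * b p) * (b p * b q) * z := by nth_rewrite 1 [hswap p q hpq]; rfl
        _ = z * (b q * (b p * b p) * b q) * z := by group
        _ = 1 := by rw [hb2, mul_one, hb2, mul_one, hzz]
    have hact : ∀ (c ci : G) (σ : Equiv.Perm (Fin 5)), ci = c⁻¹ → (∀ j, c * b j * c⁻¹ = b (σ j)) →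
        ∀ j, c * (b j * (ci * b (σ j))) = 1 := fun c ci σ hci h j => by
      rw [hci, show c * (b j * (c⁻¹ * b (σ j))) = c * b j * c⁻¹ * b (σ j) by group, h, hb2]
    obtain ⟨s0, s1, s2, s3, s4, w0, w1, w2, w3, w4, r0, r1, r2, r3, r4⟩ := perm_table
    have gS := hact S S σS Sinv.symm hSa
    have gw := hact w w σW winv.symm actw
    have gx := hact x x⁻¹ σR rfl actx
    intro u hu
    simp only [relsC, List.mem_cons, List.not_mem_nil, or_false] at hu
    repeat' rcases hu with rfl | hu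
    all_goals simp only [ev_cons, ev_nil, mul_one, LCof, fl, List.getD_eq_getElem?_getD,
      List.length_cons, List.length_nil, List.getElem?_cons_succ, List.getElem?_cons_zero,
      Option.getD_some, zero_add, Nat.reduceAdd]
    all_goals first
      | exact mul_inv_cancel _
      | exact inv_mul_cancel _
      | exact hb2 _
      | exact hS2
      | exact hw2
      | exact hzz
      | exact hz2 _ _ (by decide)
      | (have h := hzc _ (hbC 0); rw [binv] at h; exact h)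
      | (have h := hzc _ (hbC 1); rw [binv] at h; exact h)
      | (have h := hzc _ (hbC 2); rw [binv] at h; exact h)
      | (have h := hzc _ (hbC 3); rw [binv] at h; exact h)
      | (have h := hzc _ (hbC 4); rw [binv] at h; exact h)
      | (have h := hzc _ hSC; rw [Sinv] at h; exact h)
      | (have h := hzc _ hwC; rw [winv] at h; exact h)
      | exact hzc _ hxC
      | (simp only [← mul_assoc]; rw [hP, hzz])
      | (have h := gS 0; rw [s0] at h; exact h)
      | (have h := gS 1; rw [s1] at h; exact h)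
      | (have h := gS 2; rw [s2] at h; exact h)
      | (have h := gS 3; rw [s3] at h; exact h)
      | (have h := gS 4; rw [s4] at h; exact h)
      | (have h := gw 0; rw [w0] at h; exact h)
      | (have h := gw 1; rw [w1] at h; exact h)
      | (have h := gw 2; rw [w2] at h; exact h)
      | (have h := gw 3; rw [w3] at h; exact h)
      | (have h := gw 4; rw [w4] at h; exact h)
      | (have h := gx 0; rw [r0] at h; exact h)
      | (have h := gx 1; rw [r1] at h; exact h)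
      | (have h := gx 2; rw [r2] at h; exact h)
      | (have h := gx 3; rw [r3] at h; exact h)
      | (have h := gx 4; rw [r4] at h; exact h)
      | (simpa [mul_assoc] using hxxx)
      | (simpa [mul_assoc] using hxw3)
      | (simpa [pow_succ, mul_assoc] using hS5)
      | (simpa [LCof, fl, mul_assoc] using hword)
  -- generation
  have hspan : Subgroup.closure {v | v ∈ LCof z b S w x} = Cz z := by
    apply le_antisymm
    · rw [Subgroup.closure_le]
      intro v hv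
      simp only [LCof, List.mem_cons, List.not_mem_nil, or_false, Set.mem_setOf_eq] at hv
      rcases hv with rfl | rfl | rfl | rfl | rfl | rfl | rfl | rfl | rfl | rfl
      exacts [hbC 0, hbC 1, hbC 2, hbC 3, hbC 4, hSC, hwC, hxC, inv_mem hxC, Loc.memC.2 rfl]
    · intro c hc
      set H := Subgroup.closure {v | v ∈ LCof z b S w x} with hH
      have hmem : ∀ v ∈ LCof z b S w x, v ∈ H := fun v hv => Subgroup.subset_closure hv
      have hzH : z ∈ H := hmem z (by simp [LCof])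
      have hbH : ∀ j, b j ∈ H := fun j => hmem _ (by fin_cases j <;> simp [LCof])
      have hQH : ∀ q ∈ Q, q ∈ H := fun q hq => by
        refine L.frame.mem_of_gens hzH (fun p => ?_) hq
        obtain ⟨j, rfl⟩ := ι.surjective p
        rcases L.frame.eq_or_of_psi_eq (L.frame.mem (ι j)) (hbQ j) (by rw [L.frame.psi_a, hψ]) with e | e
        · rw [e]; exact hbH j
        · rw [e]; exact mul_mem hzH (hbH j)
      have hsgn : Equiv.Perm.sign (ι⁻¹ * π c * ι) = 1 := by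
        rw [map_mul, map_mul, map_inv, L.pi_sign c hc]; simp
      obtain ⟨u, hu, hup⟩ := exists_alt_word hsgn
      have hul : ∀ m ∈ altW u, 5 ≤ m := by
        intro m hm
        obtain ⟨p, hp, rfl⟩ := List.mem_map.1 hm
        rcases lt_or_ge p 3 with h | h
        · interval_cases p <;> norm_num
        · rw [List.getD_eq_default _ _ (by simpa using h)]; norm_num
      set e := ev (LCof z b S w x) (altW u) with he
      have hall : ∀ v : List Nat, ev (LCof z b S w x) v ∈ Cz z ⊓ H := by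
        intro v
        induction v with
        | nil => exact one_mem _
        | cons p v ih =>
          rw [ev_cons]
          refine mul_mem ?_ ih
          rcases lt_or_ge p 10 with h | h
          · interval_cases p
            exacts [⟨hbC 0, hbH 0⟩, ⟨hbC 1, hbH 1⟩, ⟨hbC 2, hbH 2⟩, ⟨hbC 3, hbH 3⟩, ⟨hbC 4, hbH 4⟩,
              ⟨hSC, hmem _ (by simp [LCof, fl])⟩, ⟨hwC, hmem _ (by simp [LCof, fl])⟩,
              ⟨hxC, hmem _ (by simp [LCof, fl])⟩, ⟨(Cz z).inv_mem hxC, hmem _ (by simp [LCof, fl])⟩,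
              ⟨Loc.memC.2 rfl, hzH⟩]
          · rw [fl_of_le _ (by simpa [LCof] using h)]; exact one_mem _
      have heC := (hall (altW u)).1
      have hπe : π e = π c := by
        ext1 p
        obtain ⟨j, rfl⟩ := ι.surjective p
        refine sing_inj _ _ ?_
        have h1 := hpsic heC (hbQ j) (hψ j)
        rw [A.conj_word _ hul j, hψ, hup] at h1
        rw [← h1]; simp
      have := hQH _ (L.mem_of_pi_eq hc heC hπe.symm)
      simpa using mul_mem this (hall (altW u)).2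
  exact ⟨b, S, w, x, y, M, L.card_group, hrel, hspan, L.cardC, L.zne, hfne, hxord, hy3,
    (hxM y hyM).symm, (hyW w hwW).symm, hyz, hyf, T.dec.z_mem, hfM, hyM, SP.iso, hxM,
    fun m hm => SP.comm w hwW m hm, card_cent_x L D, fun g hg => x_spectrum L D hg⟩

end CfsgLib.J2U
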