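import Cfsg.Agent.Coset.Table
import Cfsg.Agent.J2U.Letters
import Cfsg.Agent.J2U.KFive0Data

set_option autoImplicit false
set_option maxRecDepth 100000

namespace CfsgLib.J2U.KFive0

open CfsgLib.Coset

theorem hR : checkRules (relsR ++ [qPow 5 0]) subs R = true := by decide +kernel
theorem hdefs : checkDefs E 9 6 57 = true := by decide +kernel
theorem hsteps : checkChunks E ivR R 9 2 57 3 C = true := by decide +kernel
theorem htable : checkTable E ivR (57 + chunk * 3) 1 9 1 4 Rep Ref Tb = true := by decide +kernel

end CfsgLib.J2U.KFive0
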