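import Cfsg.Agent.J2U.Amal
import Cfsg.Agent.J2U.CRData
import Cfsg.Agent.J2U.TR0
import Cfsg.Agent.J2U.TR1
import Cfsg.Agent.J2U.TR2
import Cfsg.Agent.J2U.KThree0
import Cfsg.Agent.J2U.KThree1
import Cfsg.Agent.J2U.KThree2
import Cfsg.Agent.J2U.KFive0
import Cfsg.Agent.J2U.KFive1
import Cfsg.Agent.J2U.KFive2
import Cfsg.Agent.Coset.RelCheck

/-!
The centraliser of the element of order three inside the amalgam, and an involution of the alternating subgroup
`A₅` as a word.
-/

set_option autoImplicit false
set_option maxRecDepth 100000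

namespace CfsgLib.J2U

open CfsgLib.Coset

universe uR

variable {G : Type uR} [Group G]

/-- The letters of the centraliser of the element of order three. -/
def LRof (z : G) (b : Fin 5 → G) (y v x : G) : List G :=
  [z, b 0, b 4, y, y⁻¹, v, v⁻¹, x, x⁻¹]

/-- The element swapping the two fixed involutions. -/
def gEl (z : G) (b : Fin 5 → G) (S w x : G) : G := ev (LCof z b S w x) [5, 8, 5, 7, 5, 8, 5, 7, 5]

/-- The second element of order three. -/
def vEl (z : G) (b : Fin 5 → G) (S w x y : G) : G :=
  gEl z b S w x * y * (gEl z b S w x)⁻¹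

/-- The tree word of a node. -/
noncomputable def wdR (Par : Nat → Nat) (i : Nat) : List Nat := pathW Par 30 i

/-- A node is different from the first one for a checked reason. -/
noncomputable def goodOK (Tb Par Good : Nat → Nat) (i : Nat) : Bool :=
  cond (Nat.beq i 0) true
    (cond (Nat.beq (field (Good i) 0) 0)
      (Nat.beq i (follow (tget Tb) 0 [0]) || Nat.beq i (follow (tget Tb) 0 [7]) || Nat.beq i (follow (tget Tb) 0 [8]))
      (cond (Nat.beq (field (Good i) 1) 1)
        (Nat.blt (field (Good i) 2) 9 &&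
          Nat.blt (field (Good (follow (tget Tb) 0
            ([ivR (field (Good i) 2)] ++ wdR Par i ++ [field (Good i) 2]))) 0) (field (Good i) 0) &&
          !Nat.beq (follow (tget Tb) 0 ([ivR (field (Good i) 2)] ++ wdR Par i ++ [field (Good i) 2])) 0)
        (cond (Nat.beq (field (Good i) 1) 2)
          (Nat.blt (field (Good i) 2) 9 &&
            Nat.blt (field (Good (follow (tget Tb) 0 (wdR Par i ++ [field (Good i) 2] ++
              ((wdR Par i).map ivR).reverse ++ [ivR (field (Good i) 2)]))) 0) (field (Good i) 0) &&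
            !Nat.beq (follow (tget Tb) 0 (wdR Par i ++ [field (Good i) 2] ++
              ((wdR Par i).map ivR).reverse ++ [ivR (field (Good i) 2)])) 0)
          (Nat.blt (field (Good (follow (tget Tb) 0 (List.replicate (field (Good i) 2) (wdR Par i)).flatten)) 0)
            (field (Good i) 0) &&
            !Nat.beq (follow (tget Tb) 0 (List.replicate (field (Good i) 2) (wdR Par i)).flatten) 0))))

/-- The word of a node has small order against a word. -/
noncomputable def ordT (Tb : Nat → Nat) (u : List Nat) : Bool :=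
  Nat.beq (follow (tget Tb) 0 (u ++ u)) 0 || Nat.beq (follow (tget Tb) 0 (u ++ u ++ u)) 0 ||
    Nat.beq (follow (tget Tb) 0 (u ++ u ++ u ++ u ++ u)) 0

/-- The nodes that can be involutions of the alternating subgroup outside the centraliser of `z`. -/
noncomputable def mTest (Tb Par : Nat → Nat) (ok : List (Nat × List Nat)) (i : Nat) : Bool :=
  cond (Nat.beq i 0 || !Nat.beq (follow (tget Tb) 0 (wdR Par i ++ wdR Par i)) 0 ||
      Nat.beq (follow (tget Tb) 0 (wdR Par i ++ [0])) (follow (tget Tb) 0 ([0] ++ wdR Par i))) true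
    (cond (ordT Tb (wdR Par i ++ [1, 3, 3]) && ordT Tb (wdR Par i ++ [0, 1, 3, 3]))
      (ok.any fun p => Nat.beq p.1 i) true)

/-- The admissible nodes are conjugate to the chosen word. -/
noncomputable def okTest (Tb Par : Nat → Nat) (ok : List (Nat × List Nat)) (m₀ : List Nat) : Bool :=
  ok.all fun p => p.2.all (fun l => l == 0 || l == 1 || l == 3 || l == 4) && Nat.blt p.1 1080 &&
    sameT Tb 9 (p.2 ++ wdR Par p.1 ++ (p.2.map ivR).reverse) m₀

/-- Multiplying backwards. -/
theorem follow_back {Tb : Nat → Nat} {n k dn dk : Nat}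
    (hp : checkPerm ivR n k dn dk Tb = true) :
    ∀ (u : List Nat) (i : Nat), i < n → (∀ l ∈ u, l < k) →
      follow (tget Tb) i u < n ∧
        follow (tget Tb) (follow (tget Tb) i u) ((u.map ivR).reverse) = i := by
  have h := cond_false_eq_true.mp hp
  intro u
  induction u with
  | nil => intro i hi _; simpa [follow_nil] using hi
  | cons l u ih =>
    intro i hi hl
    have ht := cond_false_eq_true.mp (of_allBelow (of_allBelow h.1 i hi) l (hl l (by simp)))
    have hlt : tget Tb i l < n := Nat.ble_eq.mp ht.1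
    obtain ⟨h1, h2⟩ := ih _ hlt fun m hm => hl m (by simp [hm])
    rw [follow_cons]
    refine ⟨h1, ?_⟩
    rw [List.map_cons, List.reverse_cons, follow_append', h2, follow_cons, follow_nil]
    exact Nat.eq_of_beq_eq_true ht.2

theorem ivR_out (x : Nat) (hx : 9 ≤ x) : ivR x = x := List.getD_eq_default _ _ (by simpa using hx)

theorem ivR_lt : ∀ l < 9, ivR l < 9 := by decide

/-- The checks on one of the tables of the centraliser. -/
structure RChecks (e : Nat) (E Rep Tb Par Good : Nat → Nat) (ok : List (Nat × List Nat))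
    (m₀ : List Nat) : Prop where
  table : ∀ {X : Type*} [Group X] (L : List X), L.length = 9 →
    (∀ u ∈ relsR ++ [qPow 4 e], ev L u = 1) → TableOK L (⊥ : Subgroup X) E ivR 1080 Rep Tb
  path : checkPath Tb Par 30 1080 9 11 = true
  perm : checkPerm ivR 1080 9 11 4 Tb = true
  good : allBelow 11 1080 (goodOK Tb Par Good) = true
  mtest : allBelow 11 1080 (mTest Tb Par ok) = true
  oktest : okTest Tb Par ok m₀ = true

theorem invR_table (k e : Nat) :
    ((List.range 9).all fun x => (relsR ++ [qPow k e]).contains [x, ivR x]) = true := by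
  refine List.all_eq_true.mpr fun x hx => List.contains_iff_mem.mpr (List.mem_append.mpr (Or.inl ?_))
  have h : ((List.range 9).all fun x => relsR.contains [x, ivR x]) = true := by decide +kernel
  exact List.contains_iff_mem.mp (List.all_eq_true.mp h x hx)

theorem checks_zero : RChecks 0 TR0.E TR0.Rep TR0.Tb TR0.Par CRData.Good0 CRData.okList0 mZero where
  table L hL h := tableOK_of_check (inv_of_rels hL h (invR_table _ _) ivR_out) TR0.hR (hL.symm ▸ TR0.hdefs)
    (hL.symm ▸ TR0.hsteps) (hL.symm ▸ TR0.htable) h (by simp [TR0.subs])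
  path := by decide +kernel
  perm := by decide +kernel
  good := by decide +kernel
  mtest := by decide +kernel
  oktest := by decide +kernel

theorem checks_one : RChecks 1 TR1.E TR1.Rep TR1.Tb TR1.Par CRData.Good1 CRData.okList1 mOne where
  table L hL h := tableOK_of_check (inv_of_rels hL h (invR_table _ _) ivR_out) TR1.hR (hL.symm ▸ TR1.hdefs)
    (hL.symm ▸ TR1.hsteps) (hL.symm ▸ TR1.htable) h (by simp [TR1.subs])
  path := by decide +kernel
  perm := by decide +kernel
  good := by decide +kernel
  mtest := by decide +kernel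
  oktest := by decide +kernel

theorem checks_two : RChecks 2 TR2.E TR2.Rep TR2.Tb TR2.Par CRData.Good2 CRData.okList2 [] where
  table L hL h := tableOK_of_check (inv_of_rels hL h (invR_table _ _) ivR_out) TR2.hR (hL.symm ▸ TR2.hdefs)
    (hL.symm ▸ TR2.hsteps) (hL.symm ▸ TR2.htable) h (by simp [TR2.subs])
  path := by decide +kernel
  perm := by decide +kernel
  good := by decide +kernel
  mtest := by decide +kernel
  oktest := by decide +kernel

theorem alt5_orders : ∀ σ : Equiv.Perm (Fin 5), Equiv.Perm.sign σ = 1 →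
    σ * σ = 1 ∨ σ * σ * σ = 1 ∨ σ * σ * σ * σ * σ = 1 := by decide +kernel

theorem alt5_outside : ∀ e : Equiv.Perm (Fin 5), HJT.IsInv5 e →
    ∃ m : Equiv.Perm (Fin 5), HJT.IsInv5 m ∧ m * e ≠ e * m := by decide +kernel

variable {z : G} {b : Fin 5 → G} {S w x y : G} {M : Subgroup G}

namespace Amal

variable (A : Amal z b S w x y M)

include A

theorem fl_LR (l : Nat) : ev (LGof z b S w x y) (cr2g.getD l []) = fl (LRof z b y (vEl z b S w x y) x) l := by
  have hg : ev (LGof z b S w x y) [5, 8, 5, 7, 5, 8, 5, 7, 5] = gEl z b S w x := by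
    simp [gEl, LGof, LCof, fl]
  rcases lt_or_ge l 9 with hl | hl
  · interval_cases l
    · simp [cr2g, LGof, LRof, fl]
    · simp [cr2g, LGof, LRof, fl]
    · simp [cr2g, LGof, LRof, fl]
    · simp [cr2g, LGof, LRof, fl]
    · simp [cr2g, LGof, LRof, fl]
    · have hgi : (gEl z b S w x)⁻¹ = ev (LCof z b S w x) [5, 8, 5, 7, 5, 8, 5, 7, 5] := by
        refine inv_eq_of_mul_eq_one_right ?_
        rw [gEl, ← ev_append, A.base.eqC (u := _) (v := []) (by decide +kernel)]; rfl
      simp only [cr2g]
      rw [show fl (LRof z b y (vEl z b S w x y) x) 5 = vEl z b S w x y from rfl, vEl, hgi]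
      simp [gEl, LGof, LCof, fl, mul_assoc]
    · have hgi : (gEl z b S w x)⁻¹ = ev (LCof z b S w x) [5, 8, 5, 7, 5, 8, 5, 7, 5] := by
        refine inv_eq_of_mul_eq_one_right ?_
        rw [gEl, ← ev_append, A.base.eqC (u := _) (v := []) (by decide +kernel)]; rfl
      simp only [cr2g]
      rw [show fl (LRof z b y (vEl z b S w x y) x) 6 = (vEl z b S w x y)⁻¹ from rfl, vEl, mul_inv_rev,
        mul_inv_rev, inv_inv, hgi]
      simp [gEl, LGof, LCof, fl, mul_assoc]
    · simp [cr2g, LGof, LRof, fl]
    · simp [cr2g, LGof, LRof, fl]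
  · rw [List.getD_eq_default _ _ (by simpa [cr2g] using hl), fl_of_le _ (by simpa [LRof] using hl), ev_nil]

theorem ev_expR (u : List Nat) :
    ev (LGof z b S w x y) (expR u) = ev (LRof z b y (vEl z b S w x y) x) u := by
  induction u with
  | nil => simp [expR]
  | cons l u ih =>
    rw [expR, List.flatMap_cons, ev_append, A.fl_LR, ev_cons, ← ih, expR]

theorem relR : ∀ u ∈ relsR, ev (LRof z b y (vEl z b S w x y) x) u = 1 := by
  have B := A.base
  set g := gEl z b S w x with hg
  set v := vEl z b S w x y with hv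
  have hrel := A.relA [9, 4, 9, 4, 8] (List.mem_append.mpr (Or.inr (by decide)))
  have hsq : y * b 4 * (y * b 4) * x⁻¹ = 1 := by simpa [LGof, fl, mul_assoc] using hrel
  have e := fun p q (h : sameT TC.Tb 10 p q = true) => B.eqC (u := p) (v := q) h
  have gz : g * z * g⁻¹ = z := by
    rw [mul_inv_eq_iff_eq_mul]
    simpa [hg, gEl, LCof, fl, mul_assoc] using e [5, 8, 5, 7, 5, 8, 5, 7, 5, 9] [9, 5, 8, 5, 7, 5, 8, 5, 7, 5] (by decide +kernel)
  have g0 : g * b 0 * g⁻¹ = b 4 := by
    rw [mul_inv_eq_iff_eq_mul]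
    simpa [hg, gEl, LCof, fl, mul_assoc] using e [5, 8, 5, 7, 5, 8, 5, 7, 5, 0] [4, 5, 8, 5, 7, 5, 8, 5, 7, 5] (by decide +kernel)
  have g4 : g * b 4 * g⁻¹ = b 0 := by
    rw [mul_inv_eq_iff_eq_mul]
    simpa [hg, gEl, LCof, fl, mul_assoc] using e [5, 8, 5, 7, 5, 8, 5, 7, 5, 4] [0, 5, 8, 5, 7, 5, 8, 5, 7, 5] (by decide +kernel)
  have gx : g * x * g⁻¹ = x⁻¹ := by
    rw [mul_inv_eq_iff_eq_mul]
    simpa [hg, gEl, LCof, fl, mul_assoc] using e [5, 8, 5, 7, 5, 8, 5, 7, 5, 7] [8, 5, 8, 5, 7, 5, 8, 5, 7, 5] (by decide +kernel)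
  have b00 : b 0 * b 0 = 1 := by simpa [LCof, fl] using e [0, 0] [] (by decide +kernel)
  have b44 : b 4 * b 4 = 1 := by simpa [LCof, fl] using e [4, 4] [] (by decide +kernel)
  have zz : z * z = 1 := by simpa [LCof, fl] using e [9, 9] [] (by decide +kernel)
  have y3 : y * y * y = 1 := by rw [← B.y3]; simp [pow_succ, mul_assoc]
  have hvy : v = g * y * g⁻¹ := rfl
  have v3 : v * v * v = 1 := by
    rw [hvy, show g * y * g⁻¹ * (g * y * g⁻¹) * (g * y * g⁻¹) = g * (y * y * y) * g⁻¹ by group, y3]; group
  have x3 : x * x * x = 1 := by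
    rw [← orderOf_dvd_iff_pow_eq_one.1 B.x3.dvd]; simp [pow_succ, mul_assoc]
  have yx : x * y * x⁻¹ = y := mul_inv_eq_iff_eq_mul.2 B.yx.symm
  have vx : x * v * x⁻¹ = v := by
    have h : x⁻¹ * y * x = y := by rw [mul_assoc, B.yx]; group
    have hgxi : g * x⁻¹ * g⁻¹ = x := by
      rw [show g * x⁻¹ * g⁻¹ = (g * x * g⁻¹)⁻¹ by group, gx, inv_inv]
    calc x * v * x⁻¹ = (g * x⁻¹ * g⁻¹) * (g * y * g⁻¹) * (g * x⁻¹ * g⁻¹)⁻¹ := by rw [hgxi, hvy]
      _ = g * (x⁻¹ * y * x) * g⁻¹ := by group
      _ = v := by rw [h, hvy]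
  have vz : v * z * v⁻¹ = b 4 := by
    calc v * z * v⁻¹ = v * (g * z * g⁻¹) * v⁻¹ := by rw [gz]
      _ = g * (y * z * y⁻¹) * g⁻¹ := by rw [hvy]; group
      _ = b 4 := by rw [B.yz, g0]
  have v4 : v * b 4 * v⁻¹ = z * b 4 := by
    calc v * b 4 * v⁻¹ = v * (g * b 0 * g⁻¹) * v⁻¹ := by rw [g0]
      _ = g * (y * b 0 * y⁻¹) * g⁻¹ := by rw [hvy]; group
      _ = (g * z * g⁻¹) * (g * b 0 * g⁻¹) := by rw [B.yb]; group
      _ = z * b 4 := by rw [gz, g0]
  have v0 : v * b 0 * (v * b 0) * x = 1 := by
    calc v * b 0 * (v * b 0) * x = v * (g * b 4 * g⁻¹) * (v * (g * b 4 * g⁻¹)) * (g * x⁻¹ * g⁻¹) := by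
          rw [g4, show g * x⁻¹ * g⁻¹ = (g * x * g⁻¹)⁻¹ by group, gx, inv_inv]
      _ = g * (y * b 4 * (y * b 4) * x⁻¹) * g⁻¹ := by rw [hvy]; group
      _ = 1 := by rw [hsq]; group
  intro u hu
  simp only [relsR, List.mem_cons, List.not_mem_nil, or_false] at hu
  repeat' rcases hu with rfl | hu
  all_goals simp only [LRof, fl, ev_cons, ev_nil, mul_one, List.getD_eq_getElem?_getD,
    List.getElem?_cons_succ, List.getElem?_cons_zero, Option.getD_some]
  all_goals first
    | exact mul_inv_cancel _
    | exact inv_mul_cancel _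
    | exact zz
    | exact b00
    | exact b44
    | (rw [← mul_assoc]; exact y3)
    | (rw [← mul_assoc]; exact v3)
    | (rw [← mul_assoc]; exact x3)
    | (simpa [LCof, fl] using e [0, 9, 0, 9] [] (by decide +kernel))
    | (simpa [LCof, fl] using e [4, 9, 4, 9] [] (by decide +kernel))
    | (simpa [LCof, fl] using e [0, 4, 0, 4, 9] [] (by decide +kernel))
    | (simpa [LCof, fl] using e [7, 9, 8, 9] [] (by decide +kernel))
    | (simpa [LCof, fl] using e [7, 0, 8, 0] [] (by decide +kernel))
    | (simpa [LCof, fl] using e [7, 4, 8, 4] [] (by decide +kernel))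
    | (simp only [← mul_assoc]; rw [yx, mul_inv_cancel])
    | (simp only [← mul_assoc]; rw [vx, mul_inv_cancel])
    | (simp only [← mul_assoc]; rw [B.yz, b00])
    | (simp only [← mul_assoc]; rw [B.yb, mul_assoc z (b 0), b00, mul_one, zz])
    | (simpa [mul_assoc] using hsq)
    | (simp only [← mul_assoc]; rw [vz, b44])
    | (simp only [← mul_assoc]; rw [v4, mul_assoc z (b 4), b44, mul_one, zz])
    | (simpa [mul_assoc] using v0)

theorem q_comm : (y * (vEl z b S w x y)⁻¹) * x = x * (y * (vEl z b S w x y)⁻¹) := by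
  have h1 : ev (LRof z b y (vEl z b S w x y) x) [7, 5, 8, 6] = 1 := A.relR _ (by decide)
  have h2 : Commute x (vEl z b S w x y) := by
    have h : x * vEl z b S w x y * x⁻¹ * (vEl z b S w x y)⁻¹ = 1 := by
      simpa [LRof, fl, mul_assoc] using h1
    exact mul_inv_eq_iff_eq_mul.1 (mul_inv_eq_one.1 h)
  exact ((show Commute y x from A.base.yx).mul_left h2.symm.inv_left).eq

/-- The power of `y v⁻¹` is one of three. -/
theorem qPow_rel {k : Nat} (hk : (y * (vEl z b S w x y)⁻¹) ^ k ∈ Subgroup.zpowers x) [Finite G] :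
    ∃ e < 3, ev (LRof z b y (vEl z b S w x y) x) (qPow k e) = 1 := by
  have hq : ev (LRof z b y (vEl z b S w x y) x) (List.replicate k [3, 6]).flatten =
      (y * (vEl z b S w x y)⁻¹) ^ k := by
    rw [ev_flatten_replicate]; simp [LRof, fl]
  haveI : Fact (Nat.Prime 3) := ⟨Nat.prime_three⟩
  have x3 : x * x * x = 1 := by
    rw [← orderOf_dvd_iff_pow_eq_one.1 A.base.x3.dvd]; simp [pow_succ, mul_assoc]
  rcases HJT.pow_cases_three A.base.x3 hk with h | h | h
  · exact ⟨0, by norm_num, by simp [qPow, hq, h]⟩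
  · exact ⟨2, by norm_num, by rw [qPow, ev_append, hq, h]; simp [LRof, fl]⟩
  · exact ⟨1, by norm_num, by rw [qPow, ev_append, hq, h]; simp [LRof, fl, pow_two, x3]⟩

theorem collapse {E Rep Tb : Nat → Nat}
    (h : TableOK (LRof z b y (vEl z b S w x y) x)
      (Subgroup.centralizer ({z} : Set G)) E ivR 1 Rep Tb) : False := by
  have hy : ev (LRof z b y (vEl z b S w x y) x) [3] ∈ Subgroup.centralizer ({z} : Set G) := by
    refine h.ev_mem (by norm_num) (fun l hl => by simp at hl; subst hl; simp [LRof]) ?_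
    have := h.lt 0 (by norm_num) 3 (by simp [LRof])
    rw [follow_cons, follow_nil]; omega
  rw [Subgroup.mem_centralizer_singleton_iff] at hy
  refine A.base.bne ?_
  rw [← A.base.yz]
  have : y * z = z * y := by simpa [LRof, fl] using hy
  rw [this]; group

/-- Node facts of one table. -/
theorem mem_centR (u : List Nat) :
    ev (LRof z b y (vEl z b S w x y) x) u ∈ Subgroup.centralizer ({x} : Set G) := by
  induction u with
  | nil => exact one_mem _
  | cons l u ih =>
    rw [ev_cons]
    refine mul_mem ?_ ih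
    rw [Subgroup.mem_centralizer_singleton_iff]
    have B := A.base
    have e := fun p q (h : sameT TC.Tb 10 p q = true) => B.eqC (u := p) (v := q) h
    have hz : z * x = x * z := by simpa [LCof, fl] using e [9, 7] [7, 9] (by decide +kernel)
    have h0 : b 0 * x = x * b 0 := by simpa [LCof, fl] using e [0, 7] [7, 0] (by decide +kernel)
    have h4 : b 4 * x = x * b 4 := by simpa [LCof, fl] using e [4, 7] [7, 4] (by decide +kernel)
    have hq := A.q_comm
    have hy : Commute y x := B.yx
    have hvi : Commute (vEl z b S w x y)⁻¹ x := by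
      have := hy.inv_left.mul_left (show Commute (y * (vEl z b S w x y)⁻¹) x from hq)
      rwa [← mul_assoc, inv_mul_cancel, one_mul] at this
    rcases lt_or_ge l 9 with hl | hl
    · interval_cases l
      exacts [hz, h0, h4, hy.eq, hy.inv_left.eq, (inv_inv (vEl z b S w x y) ▸ hvi.inv_left).eq, hvi.eq, rfl,
        (Commute.refl x).inv_left.eq]
    · rw [fl_of_le _ (by simpa [LRof] using hl)]; simp

/-- In each case an involution of `A₅` is one of the admissible nodes, and so commutes with `w`. -/
theorem m_word [Finite G] {e : Nat} {E Rep Tb Par Good : Nat → Nat} {ok : List (Nat × List Nat)}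
    {m₀ : List Nat} (C : RChecks.{uR} e E Rep Tb Par Good ok m₀)
    (hq : ev (LRof z b y (vEl z b S w x y) x) (qPow 4 e) = 1) :
    ok ≠ [] ∧ ev (LRof z b y (vEl z b S w x y) x) (m₀ ++ m₀) = 1 ∧
      w * ev (LRof z b y (vEl z b S w x y) x) m₀ = ev (LRof z b y (vEl z b S w x y) x) m₀ * w := by
  classical
  have B := A.base
  set L := LRof z b y (vEl z b S w x y) x with hL
  have hlen : L.length = 9 := rfl
  have T : TableOK L (⊥ : Subgroup G) E ivR 1080 Rep Tb :=
    C.table L hlen fun u hu => by
      rcases List.mem_append.mp hu with h | h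
      · exact A.relR u h
      · rw [List.mem_singleton.mp h]; exact hq
  have hiv := T.inv
  -- only the first node is trivial
  have key : ∀ r i, field (Good i) 0 = r → i < 1080 → ev L (wdR Par i) = 1 → i = 0 := by
    intro r
    induction r using Nat.strong_induction_on with
    | _ r ih =>
      intro i hr hi h1
      by_contra hi0
      obtain ⟨hl, hf⟩ := checkPath_iff C.path hi
      have hg := of_allBelow C.good i hi
      have hbeq : Nat.beq i 0 = false := by
        cases hh : Nat.beq i 0
        · rfl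
        · exact absurd (Nat.eq_of_beq_eq_true hh) hi0
      unfold goodOK at hg
      rw [hbeq, cond_false] at hg
      have step : ∀ u : List Nat, (∀ l ∈ u, l < 9) → ev L u = 1 →
          Nat.blt (field (Good (follow (tget Tb) 0 u)) 0) (field (Good i) 0) = true →
          (!Nat.beq (follow (tget Tb) 0 u) 0) = true → False := by
        intro u hu hu1 hlt hne
        set j := follow (tget Tb) 0 u with hj
        have hjn : j < 1080 := follow_lt T u 0 (by norm_num) hu
        obtain ⟨hlj, hfj⟩ := checkPath_iff C.path hjn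
        have hev : ev L (wdR Par j) = 1 := by
          rw [wdR, ev_eq_of_follow T (by norm_num) hlj hu (by rw [hfj]), hu1]
        have := ih _ (hr ▸ Nat.blt_eq.mp hlt) j rfl hjn hev
        rw [this] at hne
        simp at hne
      cases h0 : Nat.beq (field (Good i) 0) 0
      · rw [h0, cond_false] at hg
        set c := field (Good i) 2
        cases h1' : Nat.beq (field (Good i) 1) 1
        · rw [h1', cond_false] at hg
          cases h2' : Nat.beq (field (Good i) 1) 2
          · rw [h2', cond_false, Bool.and_eq_true] at hg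
            refine step _ (fun l hm => ?_) ?_ hg.1 hg.2
            · obtain ⟨q, hq', hlq⟩ := List.mem_flatten.mp hm
              rw [List.eq_of_mem_replicate hq'] at hlq
              exact hl l hlq
            · rw [ev_flatten_replicate, h1, one_pow]
          · rw [h2', cond_true, Bool.and_eq_true, Bool.and_eq_true] at hg
            have hc : c < 9 := Nat.blt_eq.mp hg.1.1
            refine step _ ?_ ?_ hg.1.2 hg.2
            · intro l hm
              simp only [List.mem_append, List.mem_reverse, List.mem_map, List.mem_cons, List.not_mem_nil,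
                or_false] at hm
              rcases hm with ((hm | hm) | ⟨q, hq', rfl⟩) | hm
              · exact hl l hm
              · omega
              · exact ivR_lt q (hl q hq')
              · exact hm ▸ ivR_lt c hc
            · rw [ev_append, ev_append, ev_append, ev_inv_word hiv, h1]
              simp [hiv]
        · rw [h1', cond_true, Bool.and_eq_true, Bool.and_eq_true] at hg
          have hc : c < 9 := Nat.blt_eq.mp hg.1.1
          refine step _ ?_ ?_ hg.1.2 hg.2
          · intro l hm
            simp only [List.mem_append, List.mem_cons, List.not_mem_nil, or_false] at hm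
            rcases hm with (hm | hm) | hm
            · exact hm ▸ ivR_lt c hc
            · exact hl l hm
            · omega
          · rw [ev_append, ev_append, h1]
            simp [hiv]
      · rw [h0, cond_true] at hg
        simp only [Bool.or_eq_true] at hg
        have hx1 : x ≠ 1 := fun h => by have := B.x3; rw [h, orderOf_one] at this; norm_num at this
        have hs : ∀ l < 9, Nat.beq i (follow (tget Tb) 0 [l]) = true → fl L l = 1 := by
          intro l hl9 h
          have hh := ev_eq_of_follow T (u := wdR Par i) (v := [l]) (by norm_num) hl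
            (fun m hm => by simp at hm; subst hm; exact hl9)
            (by rw [wdR, hf]; exact Nat.eq_of_beq_eq_true h)
          rw [h1] at hh
          simpa using hh.symm
        rcases hg with (h | h) | h
        · exact B.zne (hs 0 (by norm_num) h)
        · exact hx1 (hs 7 (by norm_num) h)
        · exact hx1 (inv_eq_one.mp (hs 8 (by norm_num) h))
  have hinj : ∀ i < 1080, ∀ j < 1080, ev L (wdR Par i) = ev L (wdR Par j) → i = j := by
    intro i hi j hj h
    obtain ⟨hli, hfi⟩ := checkPath_iff C.path hi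
    obtain ⟨hlj, hfj⟩ := checkPath_iff C.path hj
    set u := ((wdR Par j).map ivR).reverse with hu
    have hul : ∀ l ∈ u, l < 9 := fun l hm => by
      obtain ⟨q, hq', rfl⟩ := List.mem_map.mp (List.mem_reverse.mp hm)
      exact ivR_lt q (hlj q hq')
    have h1 : ev L (wdR Par i ++ u) = 1 := by rw [ev_append, hu, ev_inv_word hiv, h, mul_inv_cancel]
    have hl' : ∀ l ∈ wdR Par i ++ u, l < 9 := List.forall_mem_append.mpr ⟨hli, hul⟩
    set k := follow (tget Tb) 0 (wdR Par i ++ u) with hk
    have hkn : k < 1080 := follow_lt T _ 0 (by norm_num) hl'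
    obtain ⟨hlk, hfk⟩ := checkPath_iff C.path hkn
    have hk0 : k = 0 := key _ k rfl hkn (by
      rw [wdR, ev_eq_of_follow T (by norm_num) hlk hl' (by rw [hfk]), h1])
    have hback := (follow_back C.perm u i hi hul).2
    rw [hk, follow_append', wdR, hfi] at hk0
    rw [hk0] at hback
    have hmm : (u.map ivR).reverse = wdR Par j := by
      rw [hu, List.map_reverse, List.reverse_reverse, List.map_map]
      conv_rhs => rw [← List.map_id (wdR Par j)]
      refine List.map_congr_left fun l hl' => ?_
      have : ∀ l < 9, ivR (ivR l) = l := by decide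
      simpa using this l (hlj l hl')
    rw [hmm, wdR, hfj] at hback
    exact hback.symm
  -- the nodes fill the centraliser
  set X := Subgroup.centralizer ({x} : Set G) with hX
  let F : Fin 1080 → X := fun i => ⟨ev L (wdR Par i), A.mem_centR _⟩
  have hF : Function.Bijective F := by
    refine (Nat.bijective_iff_injective_and_card _).mpr ⟨fun i j h => Fin.ext
      (hinj i i.2 j j.2 (congrArg Subtype.val h)), ?_⟩
    rw [Nat.card_fin]; exact B.cardX.symm
  -- an involution of the alternating subgroup outside the centraliser of `z`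
  obtain ⟨φ⟩ := B.isoM
  have hMord : ∀ m ∈ M, m * m = 1 ∨ m * m * m = 1 ∨ m * m * m * m * m = 1 := by
    intro m hm
    have hs := alt5_orders (φ ⟨m, hm⟩ : Equiv.Perm (Fin 5)) (Equiv.Perm.mem_alternatingGroup.1 (φ ⟨m, hm⟩).2)
    have back : ∀ u : M, ((φ u : alternatingGroup (Fin 5)) : Equiv.Perm (Fin 5)) = 1 → (u : G) = 1 := fun u hu => by
      have : φ u = 1 := Subtype.ext hu
      rw [show u = 1 from φ.injective (by rw [this, map_one])]; rfl
    rcases hs with h | h | h
    · exact Or.inl (back (⟨m, hm⟩ * ⟨m, hm⟩) (by rw [map_mul]; exact h))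
    · exact Or.inr (Or.inl (back (⟨m, hm⟩ * ⟨m, hm⟩ * ⟨m, hm⟩) (by rw [map_mul, map_mul]; exact h)))
    · exact Or.inr (Or.inr (back (⟨m, hm⟩ * ⟨m, hm⟩ * ⟨m, hm⟩ * ⟨m, hm⟩ * ⟨m, hm⟩)
        (by rw [map_mul, map_mul, map_mul, map_mul]; exact h)))
  obtain ⟨m, hmM, hm2, hmz⟩ : ∃ m ∈ M, m * m = 1 ∧ m * z ≠ z * m := by
    set ez := φ ⟨z, B.zM⟩ with hez
    have hzz : z * z = 1 := by simpa [LCof, fl] using B.eqC (u := [9, 9]) (v := []) (by decide +kernel)
    have hi : HJT.IsInv5 (ez : Equiv.Perm (Fin 5)) := by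
      refine ⟨?_, fun h => ?_, Equiv.Perm.mem_alternatingGroup.1 ez.2⟩
      · rw [← Subgroup.coe_mul, hez, ← map_mul]
        rw [show (⟨z, B.zM⟩ : M) * ⟨z, B.zM⟩ = 1 from Subtype.ext hzz, map_one]; rfl
      · have : ez = 1 := Subtype.ext h
        exact B.zne (congrArg Subtype.val (φ.injective (this.trans (map_one φ).symm)))
    obtain ⟨σ, hσ, hσz⟩ := alt5_outside _ hi
    set u : M := φ.symm ⟨σ, Equiv.Perm.mem_alternatingGroup.2 hσ.2.2⟩ with hu
    refine ⟨u, u.2, ?_, fun h => hσz ?_⟩
    · have : u * u = 1 := φ.injective (by rw [map_mul, map_one, hu, MulEquiv.apply_symm_apply]; exact Subtype.ext hσ.1)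
      exact congrArg Subtype.val this
    · have hc : u * ⟨z, B.zM⟩ = ⟨z, B.zM⟩ * u := Subtype.ext h
      have := congrArg φ hc
      rw [map_mul, map_mul, hu, MulEquiv.apply_symm_apply] at this
      exact congrArg Subtype.val this
  obtain ⟨i, hi⟩ := hF.2 ⟨m, Subgroup.mem_centralizer_singleton_iff.2 (B.xM m hmM).symm⟩
  have him : ev L (wdR Par i) = m := congrArg Subtype.val hi
  obtain ⟨hli, hfi⟩ := checkPath_iff C.path i.2
  have feq : ∀ u v : List Nat, (∀ l ∈ u, l < 9) → (∀ l ∈ v, l < 9) → ev L u = ev L v →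
      follow (tget Tb) 0 u = follow (tget Tb) 0 v := by
    intro u v hu hv h
    have hun := follow_lt T u 0 (by norm_num) hu
    have hvn := follow_lt T v 0 (by norm_num) hv
    obtain ⟨hlu, hfu⟩ := checkPath_iff C.path hun
    obtain ⟨hlv, hfv⟩ := checkPath_iff C.path hvn
    refine hinj _ hun _ hvn ?_
    rw [wdR, wdR, ev_eq_of_follow T (by norm_num) hlu hu (by rw [hfu]),
      ev_eq_of_follow T (by norm_num) hlv hv (by rw [hfv]), h]
  have heq := fun u v hu hv (h : follow (tget Tb) 0 u = follow (tget Tb) 0 v) =>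
    ev_eq_of_follow T (u := u) (v := v) (by norm_num) hu hv h
  have hi0 : (i : Nat) ≠ 0 := by
    intro h
    apply hmz
    rw [← him, h, heq (wdR Par 0) [] (checkPath_iff C.path (by norm_num)).1 (by simp)
      (by rw [wdR, (checkPath_iff C.path (by norm_num)).2, follow_nil])]
    simp
  have t1 : follow (tget Tb) 0 (wdR Par i ++ wdR Par i) = 0 := by
    have := feq (wdR Par i ++ wdR Par i) [] (List.forall_mem_append.mpr ⟨hli, hli⟩) (by simp)
      (by rw [ev_append, him, hm2, ev_nil])
    rwa [follow_nil] at this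
  have t2 : follow (tget Tb) 0 (wdR Par i ++ [0]) ≠ follow (tget Tb) 0 ([0] ++ wdR Par i) := by
    intro h
    have := heq _ _ (List.forall_mem_append.mpr ⟨hli, by simp [hlen]⟩) (List.forall_mem_append.mpr ⟨by simp [hlen], hli⟩) h
    rw [ev_append, ev_append, show ev L (pathW Par 30 i) = m from him] at this
    exact hmz (by simpa [hL, LRof, fl] using this)
  have t3 : ∀ r : List Nat, (∀ l ∈ r, l = 0 ∨ l = 1 ∨ l = 3) → ordT Tb (wdR Par i ++ r) = true := by
    intro r hr
    have hrl : ∀ l ∈ wdR Par i ++ r, l < 9 := List.forall_mem_append.mpr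
      ⟨hli, fun l hl => by rcases hr l hl with h | h | h <;> omega⟩
    have hrM : ev L r ∈ M := by
      clear hrl
      induction r with
      | nil => exact one_mem _
      | cons l r ih =>
        rw [ev_cons]
        refine mul_mem ?_ (ih fun q hq' => hr q (by simp [hq']))
        rcases hr l (by simp) with rfl | rfl | rfl
        exacts [B.zM, B.bM, B.yM]
    have hp : ev L (wdR Par i ++ r) ∈ M := by rw [ev_append, him]; exact mul_mem hmM hrM
    have hf : ∀ u : List Nat, (∀ l ∈ u, l < 9) → ev L u = 1 → Nat.beq (follow (tget Tb) 0 u) 0 = true := by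
      intro u hu h
      rw [feq u [] hu (by simp) (by rw [h, ev_nil]), follow_nil]; rfl
    simp only [ordT, Bool.or_eq_true]
    have hh := hMord _ hp
    have hsub : ∀ l, ∀ (n : ℕ), l ∈ (List.replicate n (wdR Par i ++ r)).flatten → l < 9 := fun l n hl => by
      obtain ⟨q, hq', hlq⟩ := List.mem_flatten.mp hl
      exact hrl l (List.eq_of_mem_replicate hq' ▸ hlq)
    rcases hh with h | h | h
    · exact Or.inl (Or.inl (hf _ (fun l hl => hsub l 2 (by simpa using hl)) (by rw [ev_append, h])))
    · exact Or.inl (Or.inr (hf _ (fun l hl => hsub l 3 (by simpa [or_assoc] using hl))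
        (by rw [ev_append, ev_append, h])))
    · exact Or.inr (hf _ (fun l hl => hsub l 5 (by simpa [or_assoc] using hl))
        (by rw [ev_append, ev_append, ev_append, ev_append, h]))
  have ht := of_allBelow C.mtest i i.2
  unfold mTest at ht
  have hb0 : Nat.beq (i : Nat) 0 = false := by
    cases hh : Nat.beq (i : Nat) 0
    · rfl
    · exact absurd (Nat.eq_of_beq_eq_true hh) hi0
  have hb2 : Nat.beq (follow (tget Tb) 0 (wdR Par i ++ [0])) (follow (tget Tb) 0 ([0] ++ wdR Par i)) = false := by
    cases hh : Nat.beq (follow (tget Tb) 0 (wdR Par i ++ [0])) (follow (tget Tb) 0 ([0] ++ wdR Par i))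
    · rfl
    · exact absurd (Nat.eq_of_beq_eq_true hh) t2
  rw [hb0, t1, hb2, t3 [1, 3, 3] (by simp), t3 [0, 1, 3, 3] (by simp)] at ht
  simp only [Nat.beq_refl, Bool.not_true, Bool.or_false, Bool.and_true, cond_true, cond_false,
    List.any_eq_true] at ht
  obtain ⟨p, hp, hpi⟩ := ht
  refine ⟨List.ne_nil_of_mem hp, ?_⟩
  have hok := List.all_eq_true.mp C.oktest p hp
  simp only [Bool.and_eq_true, List.all_eq_true, Bool.or_eq_true, beq_iff_eq] at hok
  obtain ⟨⟨hlet, -⟩, hsame⟩ := hok
  have hcM : ev L p.2 ∈ M := by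
    have : ∀ u : List Nat, (∀ l ∈ u, ((l = 0 ∨ l = 1) ∨ l = 3) ∨ l = 4) → ev L u ∈ M := by
      intro u
      induction u with
      | nil => intro _; exact one_mem _
      | cons l u ih =>
        intro hu
        rw [ev_cons]
        refine mul_mem ?_ (ih fun q hq' => hu q (by simp [hq']))
        rcases hu l (by simp) with ((rfl | rfl) | rfl) | rfl
        exacts [B.zM, B.bM, B.yM, inv_mem B.yM]
    exact this _ hlet
  have h0 := ev_eq_of_sameT T (by norm_num) hlen hsame
  rw [ev_append, ev_append, ev_inv_word hiv, Nat.eq_of_beq_eq_true hpi, him] at h0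
  rw [← h0]
  refine ⟨?_, ?_⟩
  · rw [ev_append, ← h0, show ev L p.2 * m * (ev L p.2)⁻¹ * (ev L p.2 * m * (ev L p.2)⁻¹) =
      ev L p.2 * (m * m) * (ev L p.2)⁻¹ by group, hm2]; group
  · exact B.wM _ (mul_mem (mul_mem hcM hmM) (inv_mem hcM))

end Amal

end CfsgLib.J2U
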