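import Cfsg.Agent.HJT.SetupA5
import Cfsg.Agent.HJT.Invol
import Cfsg.Agent.ZStar.Final

/-!
The local data of a centraliser of Hall–Janko type without any hypothesis on fusion, and the weak closure
failure of its central involution in a simple group.
-/

set_option autoImplicit false
set_option linter.style.haveILetI false

namespace CfsgLib.HJT

open CfsgLib.Extra2

variable {G : Type*} [Group G]

/-- The local data of a centraliser of Hall–Janko type. -/
structure PreLoc (z : G) (Q : Subgroup G) (a : Fin 5 → G) (π : G → Equiv.Perm (Fin 5)) : Prop where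
  frame : Frame z Q a
  norm : ∀ c ∈ Subgroup.centralizer ({z} : Set G), ∀ x ∈ Q, c * x * c⁻¹ ∈ Q
  le : Q ≤ Subgroup.centralizer ({z} : Set G)
  cardC : Nat.card (Subgroup.centralizer ({z} : Set G)) = 1920
  pi_mul : ∀ c ∈ Subgroup.centralizer ({z} : Set G), ∀ d ∈ Subgroup.centralizer ({z} : Set G),
    π (c * d) = π c * π d
  pi_sign : ∀ c ∈ Subgroup.centralizer ({z} : Set G), Equiv.Perm.sign (π c) = 1
  pi_surj : ∀ σ : Equiv.Perm (Fin 5), Equiv.Perm.sign σ = 1 →
    ∃ c ∈ Subgroup.centralizer ({z} : Set G), π c = σ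
  pi_ker : ∀ c ∈ Subgroup.centralizer ({z} : Set G), π c = 1 ↔ c ∈ Q
  pi_a : ∀ c ∈ Subgroup.centralizer ({z} : Set G), ∀ i,
    c * a i * c⁻¹ = a (π c i) ∨ c * a i * c⁻¹ = z * a (π c i)

namespace PreLoc

variable {z : G} {Q : Subgroup G} {a : Fin 5 → G} {π : G → Equiv.Perm (Fin 5)} (L : PreLoc z Q a π)

include L

set_option linter.unusedSectionVars false

lemma zsq : z * z = 1 := L.frame.gen.sq

lemma zne : z ≠ 1 := L.frame.gen.ne_one

lemma ord_z : orderOf z = 2 := orderOf_two_iff.2 ⟨L.zsq, L.zne⟩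

lemma conj_z {c : G} (hc : c ∈ Cz z) : c * z * c⁻¹ = z := by
  rw [Loc.memC.1 hc]; group

lemma conj_zmul {c : G} (hc : c ∈ Cz z) (x : G) : c * (z * x) * c⁻¹ = z * (c * x * c⁻¹) := by
  rw [show c * (z * x) * c⁻¹ = c * z * (x * c⁻¹) by group, Loc.memC.1 hc]; group

lemma conj_zp {c : G} (hc : c ∈ Cz z) (b : ZMod 2) : c * zp z b * c⁻¹ = zp z b := by
  rcases zmod2_cases b with rfl | rfl
  · simp
  · simpa using L.conj_z hc

lemma pi_one : π 1 = 1 := (L.pi_ker 1 (one_mem _)).2 (one_mem _)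

lemma pi_inv {c : G} (hc : c ∈ Cz z) : π c⁻¹ = (π c)⁻¹ := by
  have h := L.pi_mul _ (inv_mem hc) c hc
  rw [inv_mul_cancel, L.pi_one] at h
  exact eq_inv_of_mul_eq_one_left h.symm

lemma pi_conj {c d : G} (hc : c ∈ Cz z) (hd : d ∈ Cz z) : π (c * d * c⁻¹) = π c * π d * (π c)⁻¹ := by
  rw [L.pi_mul _ (mul_mem hc hd) _ (inv_mem hc), L.pi_mul _ hc _ hd, L.pi_inv hc]

lemma mem_of_pi_eq {c d : G} (hc : c ∈ Cz z) (hd : d ∈ Cz z) (h : π c = π d) : c * d⁻¹ ∈ Q := by
  rw [← L.pi_ker _ (mul_mem hc (inv_mem hd)), L.pi_mul _ hc _ (inv_mem hd), L.pi_inv hd, h, mul_inv_cancel]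

lemma psi_z : Frame.psi a z = 0 := by simpa using L.frame.psi_zp 1

lemma psi_conj {c x : G} (hc : c ∈ Cz z) (hx : x ∈ Q) :
    Frame.psi a (c * x * c⁻¹) = act (π c) (Frame.psi a x) := by
  have hQ := L.frame.gen
  funext j
  show cb (c * x * c⁻¹) (a j) = cb x (a ((π c).symm j))
  obtain ⟨i, rfl⟩ : ∃ i, j = π c i := ⟨(π c).symm j, by simp⟩
  rw [Equiv.symm_apply_apply]
  have hkey : cb (c * x * c⁻¹) (c * a i * c⁻¹) = cb x (a i) := by
    refine cb_eq hQ (L.norm c hc x hx) (L.norm c hc _ (L.frame.mem i)) ?_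
    calc c * x * c⁻¹ * (c * a i * c⁻¹) = c * (x * a i) * c⁻¹ := by group
      _ = c * (zp z (cb x (a i)) * (a i * x)) * c⁻¹ := by rw [← cb_spec hQ hx (L.frame.mem i)]
      _ = c * zp z (cb x (a i)) * c⁻¹ * ((c * a i * c⁻¹) * (c * x * c⁻¹)) := by group
      _ = _ := by rw [L.conj_zp hc]
  rcases L.pi_a c hc i with h | h
  · rw [← h, hkey]
  · rw [← hkey, h, cb_mul_right hQ hQ.mem (L.frame.mem _) (L.norm c hc x hx)]
    have h0 := cb_zp_left hQ 1 (L.norm c hc x hx)
    rw [zp_one, cb_comm] at h0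
    rw [h0, zero_add]

lemma pi_invol {g : G} (hg : g ∈ Cz z) (hgQ : g ∉ Q) (h2 : g * g ∈ Q) : IsInv5 (π g) := by
  refine ⟨?_, fun h => hgQ ((L.pi_ker g hg).1 h), L.pi_sign g hg⟩
  rw [← L.pi_mul g hg g hg]
  exact (L.pi_ker _ (mul_mem hg hg)).2 h2

/-- The action of an involution outside `Q` on the vectors of `Q` that it fixes modulo the centre. -/
lemma fixed_conj {g q : G} (hg : g ∈ Cz z) (hσ : IsInv5 (π g)) (hg2 : g * g = 1 ∨ g * g = z) (hq : q ∈ Q)
    (hfix : act (π g) (Frame.psi a q) = Frame.psi a q) :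
    g * q * g⁻¹ = zp z (wt (Frame.psi a q)) * q := by
  have hQ := L.frame.gen
  obtain ⟨r, hr, hv, hw⟩ := fixed_split _ hσ _ (L.frame.psi_ev hq) hfix
  obtain ⟨R, hR, hRr⟩ := L.frame.psi_surj le_rfl L.frame.mem hr
  have hgR : g * R * g⁻¹ ∈ Q := L.norm g hg R hR
  have hpgR : Frame.psi a (g * R * g⁻¹) = act (π g) r := by rw [L.psi_conj hg hR, hRr]
  have hgg : g * (g * R * g⁻¹) * g⁻¹ = R := by
    rw [conj_assoc]
    rcases hg2 with h | h <;> rw [h]
    · group
    · rw [← (hQ.comm_z R hR).eq]; group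
  have hkey : g * (R * (g * R * g⁻¹)) * g⁻¹ = zp z (wt (Frame.psi a q)) * (R * (g * R * g⁻¹)) := by
    calc g * (R * (g * R * g⁻¹)) * g⁻¹ = (g * R * g⁻¹) * (g * (g * R * g⁻¹) * g⁻¹) := by group
      _ = (g * R * g⁻¹) * R := by rw [hgg]
      _ = _ := by
        rw [cb_spec hQ hgR hR, cb_comm, L.frame.cb_eq_dot hR hgR, hRr, hpgR, ← hw]
  rcases L.frame.eq_or_of_psi_eq hq (mul_mem hR hgR)
    (by rw [L.frame.psi_mul hR hgR, hRr, hpgR, ← hv]) with e | e
  · rw [e] at hkey ⊢; exact hkey
  · have hz : ∀ w, z * (zp z w * (R * (g * R * g⁻¹))) = zp z w * (z * (R * (g * R * g⁻¹))) := fun w => by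
      rw [← mul_assoc, zp_comm hQ hQ.mem]; group
    rw [e] at hkey ⊢
    rw [L.conj_zmul hg, hkey, hz]

/-- Outer involutions with the same image are conjugate under `Q`. -/
lemma q_conj_of_same {s' : G} (hs' : s' ∈ Cz z) (hs'2 : s' * s' = 1) (hs'Q : s' ∉ Q) {t : G} (ht : t ∈ Cz z)
    (ht2 : t * t = 1) (htπ : π t = π s') : ∃ r ∈ Q, r * t * r⁻¹ = s' := by
  have hQ := L.frame.gen
  have hσ' := L.pi_invol hs' hs'Q (hs'2 ▸ one_mem Q)
  set q := s' * t⁻¹ with hqdef
  have hq : q ∈ Q := L.mem_of_pi_eq hs' ht htπ.symm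
  have hqt : s' = q * t := by simp [hqdef]
  have hv : act (π t) (Frame.psi a q) = Frame.psi a q := by
    have hgq : t * q * t⁻¹ ∈ Q := L.norm t ht q hq
    have h1 : q * (t * q * t⁻¹) = 1 := by
      calc q * (t * q * t⁻¹) = (q * t) * (q * t) * (t * t)⁻¹ := by group
        _ = 1 := by rw [ht2, ← hqt, hs'2]; group
    have h0 := congrArg (Frame.psi a) h1
    rw [L.frame.psi_mul hq hgq, L.psi_conj ht hq, Frame.psi_one, CharTwo.add_eq_zero] at h0
    exact h0.symm
  obtain ⟨r, hr, hrv, -⟩ := fixed_split _ (htπ ▸ hσ') _ (L.frame.psi_ev hq) hv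
  obtain ⟨R, hR, hRr⟩ := L.frame.psi_surj le_rfl L.frame.mem hr
  have htR : t * R⁻¹ * t⁻¹ ∈ Q := L.norm t ht _ (inv_mem hR)
  have hRinv : Frame.psi a R⁻¹ = Frame.psi a R := by
    have h := L.frame.psi_mul (inv_mem hR) hR
    rw [inv_mul_cancel, Frame.psi_one] at h
    exact CharTwo.add_eq_zero.1 h.symm
  have hpsi : Frame.psi a (R * (t * R⁻¹ * t⁻¹)) = Frame.psi a q := by
    rw [L.frame.psi_mul hR htR, L.psi_conj ht (inv_mem hR), hRinv, hRr, ← hrv]
  have hRt : R * t * R⁻¹ = R * (t * R⁻¹ * t⁻¹) * t := by group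
  rcases L.frame.eq_or_of_psi_eq (mul_mem hR htR) hq hpsi with e | e
  · exact ⟨R, hR, by rw [hRt, e, hqt]⟩
  · -- flip by a fixed vector with non-zero form
    obtain ⟨k, hk, -⟩ := inv_fixed_exists _ (htπ ▸ hσ')
    obtain ⟨w, hwf, hwev, hww⟩ : ∃ w, act (π t) w = w ∧ Ev w ∧ wt w = 1 := by
      have : ∀ σ : Equiv.Perm (Fin 5), IsInv5 σ → ∃ w, act σ w = w ∧ Ev w ∧ wt w = 1 := exists_flip
      exact this _ (htπ ▸ hσ')
    obtain ⟨y, hy, hyw⟩ := L.frame.psi_surj le_rfl L.frame.mem hwev
    have hflip := L.fixed_conj ht (htπ ▸ hσ') (Or.inl ht2) hy (by rw [hyw, hwf])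
    rw [hyw, hww, zp_one] at hflip
    have hyt : y * t * y⁻¹ = z * t := by
      calc y * t * y⁻¹ = z * (z * y) * t * y⁻¹ := by rw [← mul_assoc z z, L.zsq, one_mul]
        _ = z * (t * y * t⁻¹) * t * y⁻¹ := by rw [hflip]
        _ = z * t := by group
    refine ⟨R * y, mul_mem hR hy, ?_⟩
    rw [← conj_assoc, hyt, L.conj_zmul (L.le hR), hRt, e, ← mul_assoc z, ← mul_assoc z z, L.zsq,
      one_mul, hqt]

/-- All involutions of `C` outside `Q` are conjugate in `C`. -/
lemma outer_conj {s s' : G} (hs : s ∈ Cz z) (hs2 : s * s = 1) (hsQ : s ∉ Q)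
    (hs' : s' ∈ Cz z) (hs'2 : s' * s' = 1) (hs'Q : s' ∉ Q) :
    ∃ c ∈ Cz z, c * s * c⁻¹ = s' := by
  have hσ := L.pi_invol hs hsQ (hs2 ▸ one_mem Q)
  have hσ' := L.pi_invol hs' hs'Q (hs'2 ▸ one_mem Q)
  obtain ⟨g, hg, hgs⟩ := inv5_conj _ hσ _ hσ'
  obtain ⟨c, hc, rfl⟩ := L.pi_surj g hg
  obtain ⟨r, hr, hrs⟩ := L.q_conj_of_same hs' hs'2 hs'Q (t := c * s * c⁻¹) (mul_mem (mul_mem hc hs) (inv_mem hc))
    (by rw [show c * s * c⁻¹ * (c * s * c⁻¹) = c * (s * s) * c⁻¹ by group, hs2]; group)
    (by rw [L.pi_conj hc hs, hgs])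
  exact ⟨r * c, mul_mem (L.le hr) hc, by rw [← conj_assoc, hrs]⟩

end PreLoc

variable [Finite G]

set_option maxHeartbeats 1600000 in
theorem exists_pre (z : G) (hz : orderOf z = 2) (C : Subgroup G)
    (hC : C = Subgroup.centralizer ({z} : Set G)) (Q : Subgroup C)
    [Q.Normal] (hcq : Subgroup.centralizer (Q : Set C) ≤ Q)
    (hQ : Cfsg.IsExtraspecial 2 Q) (hcard : Nat.card Q = 2 ^ 5)
    {X : Type*} [Group X] (e : C ⧸ Q ≃* X) (hX : ∃ k, Nat.card X = 60 * k ∧ Nat.card (Subgroup.center X) = k)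
    :
    ∃ (Qg : Subgroup G) (a : Fin 5 → G) (π : G → Equiv.Perm (Fin 5)),
      PreLoc z Qg a π ∧ Qg = Q.map C.subtype := by
  classical
  haveI : Fact (Nat.Prime 5) := ⟨by norm_num⟩
  set R := Q.map C.subtype with hR
  have hz2 : z * z = 1 := by rw [← pow_two, ← hz]; exact pow_orderOf_eq_one z
  have hz1 : z ≠ 1 := fun h => by rw [h, orderOf_one] at hz; norm_num at hz
  have hmemC : ∀ x : G, x ∈ C ↔ x * z = z * x := fun x => hC ▸ Subgroup.mem_centralizer_singleton_iff
  have hself : ∀ c ∈ C, (∀ x ∈ R, c * x = x * c) → c ∈ R := by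
    intro c hc h
    refine ⟨⟨c, hc⟩, ?_, rfl⟩
    exact hcq (Subgroup.mem_centralizer_iff.2 fun x hx => Subtype.ext (h (x : G) ⟨x, hx, rfl⟩).symm)
  have hzC : z ∈ C := (hmemC z).2 rfl
  have hzR : z ∈ R := hself z hzC fun x ⟨y, _, hy⟩ => hy ▸ ((hmemC (y : G)).1 y.2).symm
  have hle : R ≤ C := Subgroup.map_subtype_le Q
  have hnorm : ∀ c ∈ C, ∀ x ∈ R, c * x * c⁻¹ ∈ R := by
    rintro c hc _ ⟨x, hx, rfl⟩
    exact ⟨⟨c, hc⟩ * x * ⟨c, hc⟩⁻¹, Subgroup.Normal.conj_mem inferInstance x hx _, rfl⟩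
  have hcardR : Nat.card R = 32 := by
    rw [hR, Subgroup.card_map_of_injective C.subtype_injective, hcard]; norm_num
  -- the generator of the centre
  obtain ⟨z', hz'⟩ := exists_gen hQ
  have hzz : (z' : G) = z := by
    obtain ⟨w, hw, hwz⟩ := Subgroup.mem_map.1 hzR
    rcases hz'.center_iff w hw (fun y _ => Subtype.ext (show (w : G) * y = y * w by
      rw [show (w : G) = z from hwz]; exact ((hmemC (y : G)).1 y.2).symm)) with h | h
    · exact absurd ((congrArg Subtype.val h).symm.trans hwz) hz1.symm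
    · rw [← h]; exact hwz
  have hgen : Gen R z := by
    refine ⟨hzR, hz1, hz2, fun x hx => (hmemC x).1 (hle hx), ?_, ?_, ?_, ?_⟩
    · rintro _ ⟨x, hx, rfl⟩ h
      rcases hz'.center_iff x hx (fun y hy => Subtype.ext (h (y : G) ⟨y, hy, rfl⟩)) with h' | h'
      · exact Or.inl (congrArg Subtype.val h')
      · exact Or.inr ((congrArg Subtype.val h').trans hzz)
    · ext w
      rw [Subgroup.mem_map, Extra2.mem_zpowers_iff hz2]
      constructor
      · rintro ⟨⟨_, x, hx, rfl⟩, hxc, rfl⟩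
        rcases hz'.center_iff x hx (fun y hy => Subtype.ext (congrArg Subtype.val
          (Subgroup.mem_center_iff.1 hxc ⟨(y : G), y, hy, rfl⟩)).symm) with h' | h'
        · exact Or.inl (congrArg Subtype.val h')
        · exact Or.inr ((congrArg Subtype.val h').trans hzz)
      · rintro (rfl | rfl)
        · exact ⟨1, one_mem _, rfl⟩
        · exact ⟨⟨w, hzR⟩, Subgroup.mem_center_iff.2 fun y => Subtype.ext ((hmemC (y : G)).1 (hle y.2)), rfl⟩
    · rintro _ ⟨x, hx, rfl⟩ _ ⟨y, hy, rfl⟩
      rcases hz'.comm x hx y hy with h' | h'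
      · exact Or.inl (congrArg Subtype.val h')
      · exact Or.inr ((congrArg Subtype.val h').trans hzz)
    · rintro _ ⟨x, hx, rfl⟩
      rcases hz'.square x hx with h' | h'
      · exact Or.inl (congrArg Subtype.val h')
      · exact Or.inr ((congrArg Subtype.val h').trans hzz)
  -- orders
  haveI : Finite X := Finite.of_equiv _ e.toEquiv
  obtain ⟨k, hk, hkc⟩ := hX
  have hcardC : Nat.card C = 32 * (60 * k) := by
    rw [Q.card_eq_card_quotient_mul_card_subgroup, hcard, Nat.card_congr e.toEquiv, hk]; ring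
  -- an element of order five
  obtain ⟨⟨f, hfC⟩, hf⟩ := exists_prime_orderOf_dvd_card' (G := C) 5
    (by rw [hcardC]; exact ⟨32 * 12 * k, by ring⟩)
  rw [← Subgroup.orderOf_coe] at hf
  simp only at hf
  have hf5 : f ^ 5 = 1 := by rw [← hf]; exact pow_orderOf_eq_one f
  let α : G → G := fun x => f * x * f⁻¹
  have hαR : ∀ x ∈ R, α x ∈ R := fun x hx => hnorm f hfC x hx
  have hαz : α z = z := mul_inv_eq_iff_eq_mul.2 ((hmemC f).1 hfC)
  have hαmul : ∀ x y, α (x * y) = α x * α y := fun x y => by simp [α]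
  let σ : Equiv.Perm R := Equiv.ofBijective (fun x => (⟨α x, hαR x x.2⟩ : R))
    (Finite.injective_iff_bijective.1 fun x y h => Subtype.ext (by simpa [α] using congrArg Subtype.val h))
  have hσ : ∀ (n : ℕ) (x : R), (((σ ^ n) x : R) : G) = f ^ n * x * (f ^ n)⁻¹ := by
    intro n
    induction n with
    | zero => intro x; simp
    | succ n ih =>
      intro x
      rw [pow_succ', Equiv.Perm.mul_apply]
      show α _ = _
      rw [ih x, pow_succ']
      simp only [α]; group
  -- fixed subgroups have order two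
  have hfix : ∀ (K : Subgroup G), K ≤ R → z ∈ K → (∀ x ∈ K, α x ∈ K) → K ≠ R →
      ∀ x ∈ K, x = 1 ∨ x = z := by
    have aux : ∀ (K : Subgroup G), K ≤ R → z ∈ K → (∀ x ∈ K, α x ∈ K) →
        Nat.card K ≡ Nat.card {x : G // x ∈ K ∧ α x = x} [MOD 5] := by
      intro K hKR _ hK
      haveI := Fintype.ofFinite K
      let τ : Equiv.Perm K := Equiv.ofBijective (fun x => (⟨α x, hK x x.2⟩ : K))
        (Finite.injective_iff_bijective.1 fun x y h => Subtype.ext (by simpa [α] using congrArg Subtype.val h))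
      have hτ : ∀ (n : ℕ) (x : K), (((τ ^ n) x : K) : G) = f ^ n * x * (f ^ n)⁻¹ := by
        intro n
        induction n with
        | zero => intro x; simp
        | succ n ih =>
          intro x
          rw [pow_succ', Equiv.Perm.mul_apply]
          show α _ = _
          rw [ih x, pow_succ']
          simp only [α]; group
      have hτ5 : τ ^ 5 ^ 1 = 1 := by
        ext x
        simp [hτ, hf5]
      have := Equiv.Perm.card_compl_support_modEq hτ5
      rw [← Nat.card_eq_fintype_card] at this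
      refine this.symm.trans (congrArg (· % 5) ?_)
      rw [← Fintype.card_coe, ← Nat.card_eq_fintype_card]
      exact Nat.card_congr
        { toFun := fun x => ⟨(x.1 : G), x.1.2, congrArg Subtype.val (Equiv.Perm.notMem_support.1
            (Finset.mem_compl.1 x.2))⟩
          invFun := fun x => ⟨⟨x.1, x.2.1⟩, Finset.mem_compl.2 (Equiv.Perm.notMem_support.2 (Subtype.ext x.2.2))⟩
          left_inv := fun x => rfl
          right_inv := fun x => rfl }
    let F : Subgroup G := R ⊓ Subgroup.centralizer ({f} : Set G)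
    have hFfix : Nat.card {x : G // x ∈ R ∧ α x = x} = Nat.card F := by
      refine Nat.card_congr (Equiv.subtypeEquivRight fun x => ?_)
      show _ ↔ x ∈ R ∧ x ∈ Subgroup.centralizer ({f} : Set G)
      rw [Subgroup.mem_centralizer_singleton_iff]
      exact and_congr_right fun _ => mul_inv_eq_iff_eq_mul.trans eq_comm
    have hdvd : ∀ K : Subgroup G, K ≤ R → z ∈ K → ∃ m, 1 ≤ m ∧ m ≤ 5 ∧ Nat.card K = 2 ^ m := by
      intro K hKR hzK
      obtain ⟨m, hm, hm'⟩ := (Nat.dvd_prime_pow Nat.prime_two).1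
        (show Nat.card K ∣ 2 ^ 5 from by rw [show (2 : ℕ) ^ 5 = 32 from rfl, ← hcardR]; exact Subgroup.card_dvd_of_le hKR)
      refine ⟨m, ?_, hm, hm'⟩
      by_contra hne
      have h0 : m = 0 := by omega
      subst h0
      exact hz1 (Subgroup.mem_bot.1 ((Subgroup.card_eq_one.1 (by simpa using hm')) ▸ hzK))
    have hFz : z ∈ F := ⟨hzR, Subgroup.mem_centralizer_singleton_iff.2 ((hmemC f).1 hfC).symm⟩
    have hFne : F ≠ R := by
      intro hFR
      have hfR : f ∈ R := hself f hfC fun x hx => by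
        have := hFR.symm ▸ hx
        exact (Subgroup.mem_centralizer_singleton_iff.1 (show x ∈ F from this).2).symm
      have := Subgroup.orderOf_coe (⟨f, hfR⟩ : R)
      have hd := orderOf_dvd_natCard (⟨f, hfR⟩ : R)
      rw [← this, hf, hcardR] at hd
      norm_num at hd
    have hF2 : Nat.card F = 2 := by
      obtain ⟨m, h1, h5, hm⟩ := hdvd F inf_le_left hFz
      have hmod := aux R le_rfl hzR hαR
      rw [hFfix, hcardR, hm] at hmod
      have hne : m ≠ 5 := fun h => hFne (Subgroup.eq_of_le_of_card_ge inf_le_left (by rw [hm, h, hcardR]; norm_num))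
      rw [hm]
      interval_cases m <;> first | rfl | exact absurd rfl hne | exact absurd hmod (by decide)
    intro K hKR hzK hK hKne x hx
    have hK2 : Nat.card K = 2 := by
      obtain ⟨m, h1, h5, hm⟩ := hdvd K hKR hzK
      have hmod := aux K hKR hzK hK
      have hfK : Nat.card {x : G // x ∈ K ∧ α x = x} = 2 := by
        have hFeq : ∀ y, y ∈ F → y = 1 ∨ y = z := by
          intro y hy
          obtain ⟨p, q, -, hset⟩ := Nat.card_eq_two_iff.1 hF2
          have h1 : ∀ w : F, w = p ∨ w = q := fun w => by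
            have : w ∈ ({p, q} : Set F) := by rw [hset]; trivial
            simpa using this
          rcases h1 ⟨y, hy⟩ with a1 | a1 <;> rcases h1 1 with a2 | a2 <;> rcases h1 ⟨z, hFz⟩ with a3 | a3
          all_goals first
            | exact Or.inl (congrArg Subtype.val (a1.trans a2.symm))
            | exact Or.inr (congrArg Subtype.val (a1.trans a3.symm))
            | exact absurd (congrArg Subtype.val (a3.trans a2.symm)) hz1
        rw [Nat.card_eq_two_iff]
        refine ⟨⟨1, one_mem _, by simp [α]⟩, ⟨z, hzK, hαz⟩,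
          fun h => hz1 (congrArg Subtype.val h).symm, Set.eq_univ_of_forall fun w => ?_⟩
        rcases hFeq w.1 ⟨hKR w.2.1, Subgroup.mem_centralizer_singleton_iff.2
          (mul_inv_eq_iff_eq_mul.1 w.2.2).symm⟩ with h | h
        · exact Or.inl (Subtype.ext h)
        · exact Or.inr (Set.mem_singleton_iff.2 (Subtype.ext h))
      rw [hfK, hm] at hmod
      have hne : m ≠ 5 := fun h => hKne (Subgroup.eq_of_le_of_card_ge hKR (by rw [hm, h, hcardR]; norm_num))
      rw [hm]
      interval_cases m <;> first | rfl | exact absurd rfl hne | exact absurd hmod (by decide)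
    obtain ⟨p, q, -, hset⟩ := Nat.card_eq_two_iff.1 hK2
    have h1 : ∀ w : K, w = p ∨ w = q := fun w => by
      have : w ∈ ({p, q} : Set K) := by rw [hset]; trivial
      simpa using this
    rcases h1 ⟨x, hx⟩ with a1 | a1 <;> rcases h1 1 with a2 | a2 <;> rcases h1 ⟨z, hzK⟩ with a3 | a3
    all_goals first
      | exact Or.inl (congrArg Subtype.val (a1.trans a2.symm))
      | exact Or.inr (congrArg Subtype.val (a1.trans a3.symm))
      | exact absurd (congrArg Subtype.val (a3.trans a2.symm)) hz1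
  -- the five involutions
  obtain ⟨a0, ha0R, ha0sq, ha01, hne⟩ := exists_noncentral_invol hgen hcardR
  let a : Fin 5 → G := fun i => f ^ (i : ℕ) * a0 * (f ^ (i : ℕ))⁻¹
  have hfp : ∀ n : ℕ, f ^ n * a0 * (f ^ n)⁻¹ = a ⟨n % 5, Nat.mod_lt _ (by norm_num)⟩ := by
    intro n
    simp only [a]
    rw [← hf, pow_mod_orderOf]
  have haR : ∀ i, a i ∈ R := fun i => hnorm _ (pow_mem hfC _) a0 ha0R
  have haα : ∀ i : Fin 5, α (a i) = a (i + 1) := by
    intro i
    have := hfp ((i : ℕ) + 1)
    rw [pow_succ'] at this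
    simp only [α, a] at this ⊢
    rw [show f * (f ^ (i : ℕ) * a0 * (f ^ (i : ℕ))⁻¹) * f⁻¹ = f * f ^ (i : ℕ) * a0 * (f * f ^ (i : ℕ))⁻¹ by group,
      this, Fin.val_add]
    simp
  have hainv : ∀ i, a i * a i = 1 := fun i => by
    simp only [a]
    rw [show ∀ u : G, u * a0 * u⁻¹ * (u * a0 * u⁻¹) = u * (a0 * a0) * u⁻¹ from fun u => by group, ha0sq]
    group
  have hcbα : ∀ x ∈ R, ∀ y ∈ R, cb (α x) (α y) = cb x y := by
    intro x hx y hy
    refine cb_eq hgen (hαR x hx) (hαR y hy) ?_
    rw [← hαmul, cb_spec hgen hx hy, hαmul, hαmul]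
    rcases zmod2_cases (cb x y) with h | h <;> simp [h, hαz, α]
  have hcb : ∀ i j : Fin 5, cb (a i) (a j) = cb (a 0) (a (j - i)) := by
    have hshift : ∀ (m i j : Fin 5), cb (a i) (a j) = cb (a (i + m)) (a (j + m)) := by
      have h1 : ∀ i j : Fin 5, cb (a i) (a j) = cb (a (i + 1)) (a (j + 1)) := fun i j => by
        rw [← haα, ← haα, hcbα _ (haR i) _ (haR j)]
      have hm : ∀ m : Fin 5, m = 0 ∨ m = 1 ∨ m = 1 + 1 ∨ m = 1 + 1 + 1 ∨ m = 1 + 1 + 1 + 1 := by decide
      intro m i j
      rcases hm m with rfl | rfl | rfl | rfl | rfl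
      · simp
      · exact h1 i j
      · simp only [← add_assoc]; rw [← h1, ← h1]
      · simp only [← add_assoc]; rw [← h1, ← h1, ← h1]
      · simp only [← add_assoc]; rw [← h1, ← h1, ← h1, ← h1]
    intro i j
    rw [hshift (-i) i j, add_neg_cancel, ← sub_eq_add_neg]
  have hsym : cb (a 0) (a 4) = cb (a 0) (a 1) ∧ cb (a 0) (a 3) = cb (a 0) (a 2) := by
    constructor <;> rw [cb_comm, hcb]
    · rfl
    · rfl
  have hK0 : ¬ ∀ i, cb (a 0) (a i) = 0 := by
    intro h0
    have hall : ∀ i j, cb (a i) (a j) = 0 := fun i j => by rw [hcb]; exact h0 _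
    let K : Subgroup G := R ⊓ Subgroup.centralizer (Set.range a)
    have haK : a 0 ∈ K := by
      refine ⟨haR 0, Subgroup.mem_centralizer_iff.2 ?_⟩
      rintro _ ⟨i, rfl⟩
      have := cb_spec hgen (haR i) (haR 0)
      simpa [hall] using this
    have hK : ∀ x ∈ K, α x ∈ K := by
      rintro x ⟨hx, hxc⟩
      refine ⟨hαR x hx, Subgroup.mem_centralizer_iff.2 ?_⟩
      rintro _ ⟨i, rfl⟩
      obtain ⟨j, rfl⟩ : ∃ j, i = j + 1 := ⟨i - 1, by simp⟩
      rw [← haα, ← hαmul, ← hαmul, Subgroup.mem_centralizer_iff.1 hxc _ ⟨j, rfl⟩]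
    have ha00 : a 0 = a0 := by simp [a]
    by_cases hKR : K = R
    · rcases hgen.center_iff (a 0) (haR 0) (fun y hy => by
        have : y ∈ K := hKR.symm ▸ hy
        exact Subgroup.mem_centralizer_iff.1 this.2 _ ⟨0, rfl⟩) with h | h
      · exact ha01 (ha00 ▸ h)
      · exact hne (ha00 ▸ h)
    · rcases hfix K inf_le_left ⟨hzR, Subgroup.mem_centralizer_iff.2 fun w ⟨i, hi⟩ =>
        hi ▸ ((hmemC _).1 (hle (haR i)))⟩ hK hKR (a 0) haK with h | h
      · exact ha01 (ha00 ▸ h)
      · exact hne (ha00 ▸ h)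
  have hcomm : ∀ i j, i ≠ j → cb (a i) (a j) = 1 := by
    have hab : cb (a 0) (a 1) = cb (a 0) (a 2) := by
      have hm : ∀ i j, a i * a j ∈ R := fun i j => mul_mem (haR i) (haR j)
      set p := a 0 * a 1 * a 2 * a 3 with hp
      have hpR : p ∈ R := mul_mem (mul_mem (mul_mem (haR 0) (haR 1)) (haR 2)) (haR 3)
      have hz0 : ∀ i, a i * a i = zp z 0 := fun i => by simpa using hainv i
      have h01 := sq_mul hgen (haR 0) (haR 1) (hz0 0) (hz0 1)
      have h012 := sq_mul hgen (hm 0 1) (haR 2) h01 (hz0 2)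
      have h0123 := sq_mul hgen (mul_mem (hm 0 1) (haR 2)) (haR 3) h012 (hz0 3)
      rw [cb_mul_left hgen (haR 0) (haR 1) (haR 2),
        cb_mul_left hgen (hm 0 1) (haR 2) (haR 3), cb_mul_left hgen (haR 0) (haR 1) (haR 3)] at h0123
      -- the product of all five is central
      have hp5 : p * a 4 = 1 ∨ p * a 4 = z := by
        let K : Subgroup G := R ⊓ Subgroup.centralizer ({f} : Set G)
        have h1 : α (p * a 4) = (a 0)⁻¹ * (p * a 4) * a 0 := by
          simp only [hp, hαmul, haα]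
          rw [show (4 : Fin 5) + 1 = 0 from rfl, show (3 : Fin 5) + 1 = 4 from rfl,
            show (2 : Fin 5) + 1 = 3 from rfl, show (1 : Fin 5) + 1 = 2 from rfl, show (0 : Fin 5) + 1 = 1 from rfl]
          group
        have hqR : p * a 4 ∈ R := mul_mem hpR (haR 4)
        have h2 : α (p * a 4) = zp z (cb (a 0) (p * a 4)) * (p * a 4) := by
          rw [h1, inv_eq_of_mul_eq_one_right (hainv 0), cb_spec hgen (haR 0) hqR]
          calc _ = zp z (cb (a 0) (p * a 4)) * (p * a 4) * (a 0 * a 0) := by group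
            _ = _ := by rw [hainv, mul_one]
        have h3 : ∀ b : ZMod 2, α (zp z b) = zp z b := fun b => by
          rcases zmod2_cases b with rfl | rfl <;> simp [hαz, α]
        rcases zmod2_cases (cb (a 0) (p * a 4)) with hb | hb
        · rw [hb, zp_zero, one_mul] at h2
          refine hfix K inf_le_left ⟨hzR, Subgroup.mem_centralizer_singleton_iff.2 ((hmemC f).1 hfC).symm⟩
            (fun x hx => ?_) ?_ _ ⟨hqR, Subgroup.mem_centralizer_singleton_iff.2 (mul_inv_eq_iff_eq_mul.1 h2).symm⟩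
          · have : α x = x := mul_inv_eq_iff_eq_mul.2 (Subgroup.mem_centralizer_singleton_iff.1 hx.2).symm
            rw [this]; exact hx
          · intro hKR
            refine hK0 fun i => ?_
            have hfa : ∀ x ∈ R, α x = x := fun x hx =>
              mul_inv_eq_iff_eq_mul.2 (Subgroup.mem_centralizer_singleton_iff.1 (show x ∈ K from hKR.symm ▸ hx).2).symm
            have : a i = a 0 := by
              simp only [a, Fin.val_zero, pow_zero, one_mul, inv_one, mul_one]
              have hc : Commute f a0 := mul_inv_eq_iff_eq_mul.1 (hfa a0 ha0R)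
              exact mul_inv_eq_iff_eq_mul.2 (hc.pow_left (i : ℕ)).eq
            rw [this, cb_self]
        · exfalso
          rw [hb, zp_one] at h2
          have hn : ∀ n : ℕ, f ^ n * (p * a 4) * (f ^ n)⁻¹ = zp z (n : ZMod 2) * (p * a 4) := by
            intro n
            induction n with
            | zero => simp
            | succ n ih =>
              rw [pow_succ', show f * f ^ n * (p * a 4) * (f * f ^ n)⁻¹ = α (f ^ n * (p * a 4) * (f ^ n)⁻¹) by
                simp only [α]; group, ih, hαmul, h3, h2, ← mul_assoc]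
              push_cast
              rw [zp_add hz2, zp_one]
          have h5 := hn 5
          rw [hf5, one_mul, inv_one, mul_one, show ((5 : ℕ) : ZMod 2) = 1 from rfl, zp_one] at h5
          exact hz1 (right_eq_mul.1 h5)
      have hsq : p * p = 1 := by
        have h4 : a 4 * a 4 = 1 := hainv 4
        rcases hp5 with h5 | h5
        · rw [eq_inv_of_mul_eq_one_left h5, inv_eq_of_mul_eq_one_right h4, h4]
        · have : p = z * a 4 := by
            calc p = p * a 4 * a 4 := by rw [mul_assoc, h4, mul_one]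
              _ = z * a 4 := by rw [h5]
          rw [this, show z * a 4 * (z * a 4) = z * (a 4 * z) * a 4 by group, (hgen.comm_z _ (haR 4)).eq,
            show z * (z * a 4) * a 4 = z * z * (a 4 * a 4) by group, hz2, h4, one_mul]
      rw [hp, h0123] at hsq
      have := zp_inj hz1 (hsq.trans (zp_zero z).symm)
      simp only [hcb (1 : Fin 5), hcb (2 : Fin 5), zero_add] at this
      rw [show (2 : Fin 5) - 1 = 1 from rfl, show (3 : Fin 5) - 1 = 2 from rfl, show (3 : Fin 5) - 2 = 1 from rfl,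
        hsym.2] at this
      revert this
      generalize cb (a 0) (a 1) = u
      generalize cb (a 0) (a 2) = v
      revert u v
      decide
    have h1 : cb (a 0) (a 1) = 1 := by
      rcases zmod2_cases (cb (a 0) (a 1)) with h | h
      · refine absurd (fun i => ?_) hK0
        fin_cases i
        · exact cb_self _
        · exact h
        · exact hab ▸ h
        · exact hsym.2.trans (hab ▸ h)
        · exact hsym.1.trans h
      · exact h
    intro i j hij
    rw [hcb]
    have : j - i ≠ 0 := sub_ne_zero.2 (Ne.symm hij)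
    revert this
    generalize j - i = d
    intro hd
    fin_cases d
    · exact absurd rfl hd
    · exact h1
    · exact hab.symm.trans h1
    · exact hsym.2.trans (hab.symm.trans h1)
    · exact hsym.1.trans h1
  have hfr : Frame z R a := ⟨hgen, hcardR, haR, hainv, hcomm⟩
  -- the permutation representation
  have hper : ∀ c ∈ C, ∀ i, ∃ j, c * a i * c⁻¹ = a j ∨ c * a i * c⁻¹ = z * a j := by
    intro c hc i
    rcases hfr.invol_cases (hnorm c hc _ (haR i))
      (by rw [show c * a i * c⁻¹ * (c * a i * c⁻¹) = c * (a i * a i) * c⁻¹ by group, hainv]; group) with h | h | h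
    · exfalso
      have : a i = 1 := by
        have := congrArg (fun w => c⁻¹ * w * c) h; simpa [mul_assoc] using this
      have h0 := hfr.psi_a i
      rw [this, Frame.psi_one] at h0
      exact sing_ne_zero i h0.symm
    · exfalso
      have : a i = z := by
        calc a i = c⁻¹ * (c * a i * c⁻¹) * c := by group
          _ = c⁻¹ * (z * c) := by rw [h]; group
          _ = z := by rw [← (hmemC c).1 hc]; group
      have h0 := hfr.psi_a i
      rw [this, show Frame.psi a z = 0 by simpa using hfr.psi_zp 1] at h0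
      exact sing_ne_zero i h0.symm
    · exact h
  choose jf hjf using hper
  have hjuniq : ∀ i j : Fin 5, a i = a j ∨ a i = z * a j → i = j := by
    intro i j h
    refine sing_inj i j ?_
    rw [← hfr.psi_a, ← hfr.psi_a]
    rcases h with h | h
    · rw [h]
    · rw [h, hfr.psi_mul hzR (haR j), show Frame.psi a z = 0 by simpa using hfr.psi_zp 1, zero_add]
  have hjinj : ∀ c (hc : c ∈ C), Function.Injective (jf c hc) := by
    intro c hc i i' h
    apply hjuniq
    have hcz : ∀ x : G, c * x * c⁻¹ = z * (c * a i' * c⁻¹) → x = z * a i' := fun x hx => by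
      calc x = c⁻¹ * (c * x * c⁻¹) * c := by group
        _ = c⁻¹ * (z * c) * a i' := by rw [hx]; group
        _ = z * a i' := by rw [← (hmemC c).1 hc]; group
    have hcx : ∀ x : G, c * x * c⁻¹ = c * a i' * c⁻¹ → x = a i' := fun x hx => by simpa using hx
    have hzzx : ∀ x : G, z * (z * x) = x := fun x => by rw [← mul_assoc, hz2, one_mul]
    rcases hjf c hc i with h1 | h1 <;> rcases hjf c hc i' with h2 | h2 <;> rw [h] at h1
    · exact Or.inl (hcx _ (h1.trans h2.symm))
    · exact Or.inr (hcz _ (by rw [h1, h2, hzzx]))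
    · exact Or.inr (hcz _ (by rw [h1, h2]))
    · exact Or.inl (hcx _ (h1.trans h2.symm))
  let π : G → Equiv.Perm (Fin 5) := fun c =>
    if hc : c ∈ C then Equiv.ofBijective _ (Finite.injective_iff_bijective.1 (hjinj c hc)) else 1
  have hπa : ∀ c ∈ C, ∀ i, c * a i * c⁻¹ = a (π c i) ∨ c * a i * c⁻¹ = z * a (π c i) := by
    intro c hc i
    have : π c i = jf c hc i := by simp [π, hc]
    rw [this]; exact hjf c hc i
  have hπuniq : ∀ c ∈ C, ∀ i j, (c * a i * c⁻¹ = a j ∨ c * a i * c⁻¹ = z * a j) → π c i = j := by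
    intro c hc i j h
    apply hjuniq
    rcases h with h | h <;> rcases hπa c hc i with h' | h' <;> rw [h] at h'
    · exact Or.inl h'.symm
    · exact Or.inr (by rw [h', ← mul_assoc, hz2, one_mul])
    · exact Or.inr h'.symm
    · exact Or.inl (mul_left_cancel h').symm
  have hπmul : ∀ c ∈ C, ∀ d ∈ C, π (c * d) = π c * π d := by
    intro c hc d hd
    ext1 i
    refine hπuniq _ (mul_mem hc hd) i _ ?_
    rw [Equiv.Perm.mul_apply, ← conj_assoc]
    have hcz : ∀ x : G, c * (z * x) * c⁻¹ = z * (c * x * c⁻¹) := fun x => by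
      rw [show c * (z * x) * c⁻¹ = c * z * (x * c⁻¹) by group, (hmemC c).1 hc]; group
    have hzzx : ∀ x : G, z * (z * x) = x := fun x => by rw [← mul_assoc, hz2, one_mul]
    rcases hπa d hd i with h | h <;> rcases hπa c hc (π d i) with h' | h'
    · exact Or.inl (by rw [h, h'])
    · exact Or.inr (by rw [h, h'])
    · exact Or.inr (by rw [h, hcz, h'])
    · exact Or.inl (by rw [h, hcz, h', hzzx])
  have hzcomm : ∀ x ∈ R, x * z = z * x := fun x hx => (hmemC x).1 (hle hx)
  have hπker : ∀ c ∈ C, π c = 1 ↔ c ∈ R := by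
    intro c hc
    constructor
    · intro h1
      let b : V5 := fun i => if c * a i * c⁻¹ = a i then 0 else 1
      have hb : ∀ i, c * a i * c⁻¹ = zp z (b i) * a i := by
        intro i
        rcases hπa c hc i with h | h <;> rw [h1] at h <;> simp only [Equiv.Perm.one_apply] at h
        · simp [b, h]
        · have : ¬ z * a i = a i := fun e => hz1 (mul_eq_right.1 e)
          simp [b, h, this]
      have hbev : Ev b := by
        have hall : Frame.psi a (a 0 * a 1 * a 2 * a 3 * a 4) = 0 := by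
          rw [hfr.psi_mul (mul_mem (mul_mem (mul_mem (haR 0) (haR 1)) (haR 2)) (haR 3)) (haR 4),
            hfr.psi_mul (mul_mem (mul_mem (haR 0) (haR 1)) (haR 2)) (haR 3),
            hfr.psi_mul (mul_mem (haR 0) (haR 1)) (haR 2), hfr.psi_mul (haR 0) (haR 1),
            hfr.psi_a, hfr.psi_a, hfr.psi_a, hfr.psi_a, hfr.psi_a]
          decide
        have hP : ∀ x, (x = 1 ∨ x = z) → c * x * c⁻¹ = x := by
          rintro x (rfl | rfl)
          · group
          · rw [(hmemC c).1 hc]; group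
        have := hP _ (hfr.psi_eq_zero (mul_mem (mul_mem (mul_mem (mul_mem (haR 0) (haR 1)) (haR 2)) (haR 3)) (haR 4)) hall)
        rw [show c * (a 0 * a 1 * a 2 * a 3 * a 4) * c⁻¹ = (c * a 0 * c⁻¹) * (c * a 1 * c⁻¹) * (c * a 2 * c⁻¹) *
          (c * a 3 * c⁻¹) * (c * a 4 * c⁻¹) by group, hb, hb, hb, hb, hb] at this
        have key : ∀ (u : G) (s t : ZMod 2) (i : Fin 5), u ∈ R →
            zp z s * u * (zp z t * a i) = zp z (s + t) * (u * a i) := fun u s t i hu => by
          calc zp z s * u * (zp z t * a i) = zp z s * (u * zp z t) * a i := by group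
            _ = _ := by rw [zp_comm hgen hu, zp_add hz2]; group
        rw [key _ _ _ _ (haR 0), key _ _ _ _ (mul_mem (haR 0) (haR 1)),
          key _ _ _ _ (mul_mem (mul_mem (haR 0) (haR 1)) (haR 2)),
          key _ _ _ _ (mul_mem (mul_mem (mul_mem (haR 0) (haR 1)) (haR 2)) (haR 3)), mul_eq_right] at this
        have h0 := zp_inj hz1 (this.trans (zp_zero z).symm)
        show ∑ i, b i = 0
        rw [Fin.sum_univ_five]; exact h0
      obtain ⟨x, hx, hxb⟩ := hfr.psi_surj le_rfl haR hbev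
      have hxa : ∀ i, x * a i * x⁻¹ = zp z (b i) * a i := by
        intro i
        rw [cb_spec hgen hx (haR i), show cb x (a i) = b i from congrFun hxb i]; group
      have hmem : x⁻¹ * c ∈ R := by
        refine hself _ (mul_mem (inv_mem (hle hx)) hc) fun y hy => ?_
        have : y ∈ Subgroup.centralizer ({x⁻¹ * c} : Set G) := by
          refine hfr.mem_of_gens ?_ (fun i => ?_) hy
          · rw [Subgroup.mem_centralizer_singleton_iff]
            exact ((hmemC _).1 (mul_mem (inv_mem (hle hx)) hc)).symm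
          · rw [Subgroup.mem_centralizer_singleton_iff]
            calc a i * (x⁻¹ * c) = x⁻¹ * (x * a i * x⁻¹) * c := by group
              _ = x⁻¹ * (c * a i * c⁻¹) * c := by rw [hxa, hb]
              _ = x⁻¹ * c * a i := by group
        exact (Subgroup.mem_centralizer_singleton_iff.1 this).symm
      have := mul_mem hx hmem
      rwa [mul_inv_cancel_left] at this
    · intro hcR
      ext1 i
      refine hπuniq c hc i i ?_
      rcases hgen.comm c hcR (a i) (haR i) with h | h
      · exact Or.inl (mul_inv_eq_one.1 h)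
      · exact Or.inr (mul_inv_eq_iff_eq_mul.1 h)
  -- the image
  let φ : C →* Equiv.Perm (Fin 5) := MonoidHom.mk' (fun c => π c) fun c d => hπmul c c.2 d d.2
  have hkerφ : φ.ker = Q := by
    ext c
    rw [MonoidHom.mem_ker]
    constructor
    · intro h
      obtain ⟨y, hy, hye⟩ := (hπker c c.2).1 h
      rwa [← Subtype.ext hye]
    · exact fun h => (hπker c c.2).2 ⟨c, h, rfl⟩
  have hrange : Nat.card φ.range = 60 * k := by
    rw [← hk, ← Nat.card_congr e.toEquiv, ← Subgroup.index_ker, hkerφ]; rfl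
  have hk1 : k = 1 := by
    have h120 : Nat.card φ.range ≤ 120 := by
      refine (Subgroup.card_le_card_group _).trans (le_of_eq ?_)
      rw [Nat.card_eq_fintype_card, Fintype.card_perm]; rfl
    have hkpos : 0 < k := hkc ▸ Nat.card_pos
    by_contra hne
    have hk2 : k = 2 := by omega
    subst hk2
    have htop : φ.range = ⊤ := Subgroup.eq_top_of_card_eq _ (by
      rw [hrange, Nat.card_eq_fintype_card, Fintype.card_perm]; rfl)
    let eq : C ⧸ φ.ker ≃* Equiv.Perm (Fin 5) :=
      QuotientGroup.quotientKerEquivOfSurjective φ (MonoidHom.range_eq_top.1 htop)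
    let E : X ≃* Equiv.Perm (Fin 5) :=
      e.symm.trans ((QuotientGroup.quotientMulEquivOfEq hkerφ.symm).trans eq)
    haveI : Subsingleton ↥(Subgroup.center X) := by
      constructor
      intro u v
      have : ∀ w : ↥(Subgroup.center X), w = 1 := by
        intro w
        apply Subtype.ext
        apply E.injective
        rw [OneMemClass.coe_one, map_one]
        refine perm5_center _ fun y => ?_
        obtain ⟨y, rfl⟩ := E.surjective y
        rw [← map_mul, ← map_mul, Subgroup.mem_center_iff.1 w.2 y]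
      rw [this u, this v]
    rw [Nat.card_unique] at hkc
    norm_num at hkc
  subst hk1
  have halt : φ.range = alternatingGroup (Fin 5) := by
    refine Equiv.Perm.eq_alternatingGroup_of_index_eq_two ?_
    have h := φ.range.card_mul_index
    rw [hrange, Nat.card_eq_fintype_card, Fintype.card_perm, Fintype.card_fin] at h
    norm_num [Nat.factorial] at h
    omega
  subst hC
  refine ⟨R, a, π, ⟨hfr, hnorm, hle, by rw [hcardC], hπmul, ?_, ?_, hπker, hπa⟩, rfl⟩
  · intro c hc
    have : φ ⟨c, hc⟩ ∈ alternatingGroup (Fin 5) := halt ▸ ⟨_, rfl⟩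
    exact Equiv.Perm.mem_alternatingGroup.1 this
  · intro σ' hσ'
    obtain ⟨c, hc⟩ := (halt ▸ Equiv.Perm.mem_alternatingGroup.2 hσ' : σ' ∈ φ.range)
    exact ⟨c, c.2, hc⟩

/-- In a simple group some other conjugate of the central involution lies in `Q`. -/
theorem exists_conj_mem_of_simple [IsSimpleGroup G] (z : G) (hz : orderOf z = 2)
    (Q : Subgroup (Subgroup.centralizer ({z} : Set G))) [Q.Normal]
    (hcq : Subgroup.centralizer (Q : Set (Subgroup.centralizer ({z} : Set G))) ≤ Q)
    (hQ : Cfsg.IsExtraspecial 2 Q) (hcard : Nat.card Q = 2 ^ 5)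
    (e : (Subgroup.centralizer ({z} : Set G)) ⧸ Q ≃* alternatingGroup (Fin 5)) :
    ∃ g : G, (∃ hq : g * z * g⁻¹ ∈ Subgroup.centralizer ({z} : Set G),
      (⟨g * z * g⁻¹, hq⟩ : Subgroup.centralizer ({z} : Set G)) ∈ Q) ∧ g * z * g⁻¹ ≠ z := by
  obtain ⟨R, a, π, L, hR⟩ := exists_pre z hz _ rfl Q hcq hQ hcard e ⟨1, by rw [card_alt5], by
    rw [Subgroup.card_eq_one, eq_bot_iff]
    intro w hw
    exact Subgroup.mem_bot.2 (alt5_center fun h => (Subgroup.mem_center_iff.1 hw h).symm)⟩
  by_contra hno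
  push Not at hno
  have hA : ∀ g : G, g * z * g⁻¹ ∈ R → g * z * g⁻¹ = z := by
    intro g hg
    rw [hR] at hg
    obtain ⟨y, hy, hyg⟩ := hg
    have hyC : g * z * g⁻¹ ∈ Subgroup.centralizer ({z} : Set G) := hyg ▸ y.2
    have he : (⟨g * z * g⁻¹, hyC⟩ : Subgroup.centralizer ({z} : Set G)) = y := Subtype.ext hyg.symm
    exact hno g ⟨hyC, he.symm ▸ hy⟩
  have hQR := L.frame.gen
  -- the involution is not isolated
  have hni : ¬ Cfsg.IsIsolatedInvolution z := by
    intro hiso
    obtain ⟨N, hN, hodd, hcomm⟩ := CfsgLib.ZStar.zstar hiso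
    rcases hN.eq_bot_or_eq_top with hb | ht
    · subst hb
      have htop : Subgroup.centralizer ({z} : Set G) = ⊤ := eq_top_iff.2 fun g _ => by
        rw [Subgroup.mem_centralizer_singleton_iff]
        have h : z * g * z⁻¹ * g⁻¹ = 1 := Subgroup.mem_bot.1 (hcomm g)
        calc g * z = (z * g * z⁻¹ * g⁻¹) * (g * z) := by rw [h, one_mul]
          _ = z * g := by group
      have hcG := L.cardC
      rw [htop, Subgroup.card_top] at hcG
      have hRn : R.Normal := ⟨fun x hx g => L.norm g (htop ▸ Subgroup.mem_top g) x hx⟩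
      have hcR : Nat.card R = 32 := by
        rw [hR, Subgroup.card_map_of_injective (Subgroup.subtype_injective _), hcard]; norm_num
      rcases hRn.eq_bot_or_eq_top with h | h
      · exact hQR.ne_one (Subgroup.mem_bot.1 (h ▸ hQR.mem))
      · rw [h, Subgroup.card_top, hcG] at hcR; omega
    · subst ht
      rw [Subgroup.card_top] at hodd
      have h2 : orderOf z ∣ Nat.card G := orderOf_dvd_natCard z
      rw [hz] at h2
      exact Nat.not_even_iff_odd.2 hodd (even_iff_two_dvd.2 h2)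
  obtain ⟨g, hgc, hgne⟩ : ∃ g : G, Commute z (g * z * g⁻¹) ∧ g * z * g⁻¹ ≠ z := by
    by_contra h
    push Not at h
    exact hni ⟨hz, h⟩
  have hzz := L.zsq
  have hsC : g * z * g⁻¹ ∈ Cz z := Loc.memC.2 hgc.eq.symm
  have hs2 : g * z * g⁻¹ * (g * z * g⁻¹) = 1 := by rw [conj_mul, hzz]; group
  have hsR : g * z * g⁻¹ ∉ R := fun h => hgne (hA g h)
  -- the conjugate of `z` by `g⁻¹`
  have ht'C : g⁻¹ * z * g ∈ Cz z := by
    refine Loc.memC.2 ?_
    have h := commute_conj g⁻¹ hgc.eq
    rw [show g⁻¹ * (g * z * g⁻¹) * g⁻¹⁻¹ = z by group, inv_inv] at h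
    exact h
  have ht'2 : g⁻¹ * z * g * (g⁻¹ * z * g) = 1 := by
    rw [show g⁻¹ * z * g * (g⁻¹ * z * g) = g⁻¹ * (z * z) * g by group, hzz]; group
  have ht'R : g⁻¹ * z * g ∉ R := by
    intro h
    have e1 := hA g⁻¹ (by rwa [inv_inv])
    rw [inv_inv] at e1
    apply hgne
    calc g * z * g⁻¹ = g * (g⁻¹ * z * g) * g⁻¹ := by rw [e1]
      _ = z := by group
  have hσ := L.pi_invol ht'C ht'R (ht'2 ▸ one_mem R)
  obtain ⟨k, hk, -⟩ := inv_fixed_exists _ hσ
  have hfx := L.fixed_conj ht'C hσ (Or.inl ht'2) (L.frame.mem k) (by rw [L.frame.psi_a, act_sing, hk])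
  rw [L.frame.psi_a, wt_sing, zp_zero, one_mul] at hfx
  have hak : g⁻¹ * z * g * a k = a k * (g⁻¹ * z * g) := by
    calc g⁻¹ * z * g * a k = (g⁻¹ * z * g * a k * (g⁻¹ * z * g)⁻¹) * (g⁻¹ * z * g) := by group
      _ = _ := by rw [hfx]
  have hak2 : a k * a k = 1 := by
    have := L.frame.sq_eq (L.frame.mem k)
    rwa [L.frame.psi_a, wt_sing, zp_zero] at this
  have hzak : z * a k = a k * z := ((hQR.comm_z _ (L.frame.mem k)).eq).symm
  -- the conjugates by `g` of the involutions `a k` and `z a k` lie in `Q`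
  have key : ∀ x ∈ R, x * x = 1 → x ≠ z → g⁻¹ * z * g * x = x * (g⁻¹ * z * g) → g * x * g⁻¹ ∈ R := by
    intro x hx hx2 hxz hxt
    by_contra hout
    have hxC : g * x * g⁻¹ ∈ Cz z := by
      refine Loc.memC.2 ?_
      have h := commute_conj g hxt
      rw [show g * (g⁻¹ * z * g) * g⁻¹ = z by group] at h
      exact h.symm
    obtain ⟨c, hc, hcs⟩ := L.outer_conj hsC hs2 hsR hxC (by rw [conj_mul, hx2]; group) hout
    have hxeq : x = g⁻¹ * c * g * z * (g⁻¹ * c * g)⁻¹ := by
      calc x = g⁻¹ * (g * x * g⁻¹) * g := by group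
        _ = g⁻¹ * (c * (g * z * g⁻¹) * c⁻¹) * g := by rw [hcs]
        _ = _ := by group
    exact hxz (hxeq.trans (hA _ (hxeq ▸ hx)))
  have h1 : g * a k * g⁻¹ ∈ R := key _ (L.frame.mem k) hak2 (fun h => by
    have := L.psi_z
    rw [← h, L.frame.psi_a] at this
    exact sing_ne_zero k this) hak
  have h2 : g * (z * a k) * g⁻¹ ∈ R := by
    refine key _ (mul_mem hQR.mem (L.frame.mem k)) ?_ ?_ ?_
    · calc z * a k * (z * a k) = z * (a k * z) * a k := by group
        _ = (z * z) * (a k * a k) := by rw [← hzak]; group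
        _ = 1 := by rw [hzz, hak2, one_mul]
    · intro h
      have h0 : a k = 1 := mul_eq_left.1 h
      have := L.frame.psi_a k
      rw [h0, Frame.psi_one] at this
      exact sing_ne_zero k this.symm
    · calc g⁻¹ * z * g * (z * a k) = (g⁻¹ * z * g * z) * a k := by group
        _ = (z * (g⁻¹ * z * g)) * a k := by rw [Loc.memC.1 ht'C]
        _ = z * (a k * (g⁻¹ * z * g)) := by rw [mul_assoc, hak]
        _ = _ := by group
  apply hsR
  have h3 := mul_mem h2 (inv_mem h1)
  convert h3 using 1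
  group

end CfsgLib.HJT
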