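import Cfsg.Agent.Coset.Table
import Cfsg.Agent.J2U.Letters
import Cfsg.Agent.J2U.TCData

set_option autoImplicit false
set_option maxRecDepth 100000

namespace CfsgLib.J2U.TC

open CfsgLib.Coset

theorem hR : checkRules relsC subs R = true := by decide +kernel
theorem hdefs : checkDefs E 10 11 1960 = true := by decide +kernel
theorem hsteps : checkChunks E ivC R 10 7 1960 122 C = true := by decide +kernel
theorem htable : checkTable E ivC (1960 + chunk * 122) 1920 10 11 4 Rep Ref Tb = true := by decide +kernel

end CfsgLib.J2U.TC
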