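import Cfsg.Agent.J2.Main
import Cfsg.Agent.J2U.Calc
import Cfsg.Agent.J2U.TC
import Cfsg.Agent.J2U.TG0

/-!
A presentation of the Hall–Janko group on the data of an involution centraliser, and the recognition criterion
that it gives.
-/

set_option autoImplicit false
set_option maxRecDepth 100000

namespace CfsgLib.J2U

open CfsgLib.Coset

/-- The presented group. -/
abbrev PU : Type := NumGr 12 relsG

/-- Its generators. -/
noncomputable abbrev LU : List PU := numGens 12 relsG

theorem len_LU : (LU).length = 12 := length_numGens

theorem inv_table : ((List.range 12).all fun x => relsG.contains [x, ivG x]) = true := by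
  decide +kernel

theorem ivG_out (x : Nat) (hx : 12 ≤ x) : ivG x = x :=
  List.getD_eq_default _ _ (by simpa using hx)

theorem ivC_out (x : Nat) (hx : 10 ≤ x) : ivC x = x :=
  List.getD_eq_default _ _ (by simpa using hx)

theorem invC_table : ((List.range 10).all fun x => relsC.contains [x, ivC x]) = true := by
  decide +kernel

/-- The centraliser letters of a list of twelve elements. -/
noncomputable def subL {X : Type*} [Group X] (L : List X) : List X := toG.map (fl L)

theorem len_subL {X : Type*} [Group X] (L : List X) : (subL L).length = 10 := by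
  simp [subL, toG]

theorem fl_subL {X : Type*} [Group X] {L : List X} (hL : L.length = 12) (l : Nat) :
    fl (subL L) l = fl L (toG.getD l 12) := by
  rcases lt_or_ge l toG.length with hl | hl
  · simp [fl, subL, List.getD_eq_getElem?_getD, List.getElem?_eq_getElem hl]
  · rw [fl_of_le _ (by simpa [subL] using hl), List.getD_eq_default _ _ hl, fl_of_le _ (by omega)]

theorem ev_subL {X : Type*} [Group X] {L : List X} (hL : L.length = 12) (w : List Nat) :
    ev (subL L) w = ev L (w.map fun l => toG.getD l 12) := by
  induction w with
  | nil => simp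
  | cons l w ih => simp [ih, fl_subL hL]

theorem relsC_sub : ∀ w ∈ relsC, ev (subL LU) w = 1 := by
  intro w hw
  rw [ev_subL len_LU]
  refine ev_numGens _ ?_
  simp only [relsG, relsA]
  exact List.mem_append.mpr (Or.inl (List.mem_append.mpr (Or.inl (List.mem_map.mpr ⟨w, hw, rfl⟩))))

theorem tc_U : TableOK (subL LU) (⊥ : Subgroup PU) TC.E ivC 1920 TC.Rep TC.Tb :=
  tableOK_of_check (inv_of_rels (len_subL _) relsC_sub invC_table ivC_out) TC.hR
    (by rw [len_subL]; exact TC.hdefs) (by rw [len_subL]; exact TC.hsteps)
    (by rw [len_subL]; exact TC.htable) relsC_sub (by simp [TC.subs])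

/-- The subgroup of the centraliser letters. -/
noncomputable def HU : Subgroup PU := Subgroup.closure {x | x ∈ subL LU}

theorem subs_letters : subsC.all (fun w => w.all fun l => toG.contains l) = true := by
  decide +kernel

theorem tg_subs : TG0.subs = subsC := by decide +kernel

theorem card_HU : Finite HU ∧ Nat.card HU ≤ 1920 := by
  have h := tc_U.finite_card_le (by norm_num) bot_le inferInstance (m := 1) (by simp)
  simpa [HU] using h

theorem card_PU : Finite PU ∧ Nat.card PU ≤ 604800 := by
  have ht : TableOK LU HU TG0.E ivG 315 TG0.Rep TG0.Tb :=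
    tableOK_of_check (inv_of_rels len_LU ev_numGens inv_table ivG_out) TG0.hR
      (by rw [len_LU]; exact TG0.hdefs) (by rw [len_LU]; exact TG0.hsteps)
      (by rw [len_LU]; exact TG0.htable) ev_numGens (fun w hw => by
        rw [tg_subs] at hw
        have hl := List.all_eq_true.mp (List.all_eq_true.mp subs_letters w hw)
        clear hw
        induction w with
        | nil => simp
        | cons l w ih =>
          rw [ev_cons]
          refine mul_mem (Subgroup.subset_closure ?_) (ih fun x hx => hl x (by simp [hx]))
          exact List.mem_map.mpr ⟨l, List.contains_iff_mem.mp (hl l (by simp)), rfl⟩)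
  have h := ht.finite_card_le (by norm_num) (by
    rw [closure_numGens]; exact le_top) card_HU.1 card_HU.2
  rw [closure_numGens, Subgroup.card_top] at h
  obtain ⟨hf, hc⟩ := h
  exact ⟨Finite.of_equiv _ Subgroup.topEquiv.toEquiv, hc⟩

/-- The letters among the reflections. -/
noncomputable def LP : List J2.Perm.P := toRefl.map (ev J2.Perm.Lp)

theorem len_LP : LP.length = 12 := by simp [LP, toRefl]

/-- A word flattened. -/
def flatP (w : List Nat) : List Nat := w.flatMap fun l => toRefl.getD l []

theorem ev_LP (w : List Nat) : ev LP w = ev J2.Perm.Lp (flatP w) := by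
  induction w with
  | nil => simp [flatP]
  | cons x w ih =>
    rw [ev_cons, ih, flatP, flatP, List.flatMap_cons, ev_append]
    congr 1
    rw [fl, LP]
    rcases lt_or_ge x toRefl.length with hx | hx
    · simp [List.getD_eq_getElem?_getD, List.getElem?_eq_getElem hx]
    · rw [List.getD_eq_default _ _ hx, List.getD_eq_default _ _ (by simpa using hx), ev_nil]

/-- Two words in the reflections agree. -/
noncomputable def sameP (u v : List Nat) : Bool :=
  cond (checkLetters 5 [u]) (cond (checkLetters 5 [v])
    (allList (fun b => Nat.beq (follow (tget J2.Perm.Tb) b u) (follow (tget J2.Perm.Tb) b v))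
      (J2.Perm.base.map Fin.val)) false) false

theorem ev_eq_of_sameP {u v : List Nat} (h : sameP u v = true) :
    ev J2.Perm.Lp u = ev J2.Perm.Lp v := by
  unfold sameP at h
  rw [cond_false_eq_true, cond_false_eq_true] at h
  exact J2.Perm.matches_ρ.ev_eq_of_base J2.Perm.base_bot (by rw [J2.Perm.len_Lp]; exact h.1)
    (by rw [J2.Perm.len_Lp]; exact h.2.1) h.2.2

theorem LP_check : (relsG.all fun w => sameP (flatP w) []) = true := by decide +kernel

theorem LP_rels : ∀ w ∈ relsG, ev LP w = 1 := by
  intro w hw
  rw [ev_LP, ev_eq_of_sameP (List.all_eq_true.mp LP_check w hw), ev_nil]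

/-- The map to the group on the 315 lines. -/
noncomputable def ψU : PU →* J2.Perm.P := numHom len_LP LP_rels

theorem from_check : ((List.range 5).all fun l => sameP (flatP (fromRefl.getD l [])) [l]) = true := by
  decide +kernel

theorem ψU_surjective : Function.Surjective ψU := by
  rw [← MonoidHom.range_eq_top, eq_top_iff, ← closure_numGens]
  refine (Subgroup.closure_le _).mpr ?_
  intro x hx
  obtain ⟨i, -, rfl⟩ := List.mem_map.mp hx
  refine ⟨ev LU (fromRefl.getD i.val []), ?_⟩
  rw [ψU, numHom_ev, ev_LP,
    ev_eq_of_sameP (List.all_eq_true.mp from_check i.val (List.mem_range.mpr i.isLt))]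
  rw [ev_cons, ev_nil, mul_one]
  exact fl_numGens i

theorem card_PU_eq : Nat.card PU = 604800 := by
  have := card_PU.1
  exact le_antisymm card_PU.2 (J2.Perm.card_P ▸ Nat.card_le_card_of_surjective _ ψU_surjective)

/-- The presentation is one of the Hall–Janko group. -/
noncomputable def ePU : PU ≃* J2.Perm.P :=
  have := card_PU.1
  MulEquiv.ofBijective ψU ((Nat.bijective_iff_surjective_and_card _).mpr
    ⟨ψU_surjective, card_PU_eq.trans J2.Perm.card_P.symm⟩)

/-- A group of order 604800 with twelve elements satisfying the relators is the Hall–Janko group. -/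
theorem isoJ2_of_rels {G : Type*} [Group G] (hG : Nat.card G = 604800) {L : List G}
    (hL : L.length = 12) (hrel : ∀ w ∈ relsG, ev L w = 1) (hne : fl L 11 ≠ 1) :
    Cfsg.Spor.IsoJ2 G := by
  have hfin : Finite G := Nat.finite_of_card_ne_zero (by rw [hG]; norm_num)
  have := card_PU.1
  have hs : IsSimpleGroup PU := by
    have := J2.Perm.isSimple
    exact ePU.isSimpleGroup
  let f : PU →* G := numHom hL hrel
  have hker : f.ker = ⊥ := by
    rcases Subgroup.Normal.eq_bot_or_eq_top (H := f.ker) inferInstance with h | h
    · exact h
    · exfalso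
      have h1 : fl (numGens 12 relsG) 11 ∈ f.ker := h ▸ Subgroup.mem_top _
      rw [MonoidHom.mem_ker] at h1
      exact hne ((numHom_fl hL hrel 11).symm.trans h1)
  have hinj : Function.Injective f := (MonoidHom.ker_eq_bot_iff f).mp hker
  exact ⟨((MulEquiv.ofBijective f ((Nat.bijective_iff_injective_and_card _).mpr
    ⟨hinj, card_PU_eq.trans hG.symm⟩)).symm.trans ePU).trans J2.eJ.symm⟩

end CfsgLib.J2U
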