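import Cfsg.Agent.Coset.Table
import Cfsg.Agent.J2U.Letters
import Cfsg.Agent.J2U.TAData

set_option autoImplicit false
set_option maxRecDepth 100000

namespace CfsgLib.J2U.TA

open CfsgLib.Coset

theorem hR : checkRules relsAlt subs R = true := by decide +kernel
theorem hdefs : checkDefs E 3 6 60 = true := by decide +kernel
theorem hsteps : checkChunks E ivA R 3 1 60 1 C = true := by decide +kernel
theorem htable : checkTable E ivA (60 + chunk * 1) 60 3 6 2 Rep Ref Tb = true := by decide +kernel

end CfsgLib.J2U.TA
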