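import Cfsg.Agent.J2U.Calc
import Cfsg.Agent.J2U.TA
import Cfsg.Agent.HJT.Space
import Mathlib.GroupTheory.SpecificGroups.Alternating

/-!
The permutations of five letters underlying the generators of the centraliser.
-/

set_option autoImplicit false
set_option maxRecDepth 100000

namespace CfsgLib.J2U

open CfsgLib.Coset CfsgLib.HJT

/-- The involution `(0 1)(3 4)`. -/
def σS : Equiv.Perm (Fin 5) := Equiv.swap 0 1 * Equiv.swap 3 4

/-- The involution `(1 2)(3 4)`. -/
def σW : Equiv.Perm (Fin 5) := Equiv.swap 1 2 * Equiv.swap 3 4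

/-- The three-cycle `(1 2 3)`. -/
def σR : Equiv.Perm (Fin 5) := Equiv.swap 1 2 * Equiv.swap 2 3

/-- The permutation of a letter of the centraliser. -/
def permC (l : Nat) : Equiv.Perm (Fin 5) :=
  if l = 5 then σS else if l = 6 then σW else if l = 7 then σR else if l = 8 then σR⁻¹ else 1

/-- The permutation of a word. -/
def permW (u : List Nat) : Equiv.Perm (Fin 5) := (u.map permC).prod

theorem permW_cons (l : Nat) (u : List Nat) : permW (l :: u) = permC l * permW u := by
  simp [permW]

/-- A word in the letters of the complement as a word in the letters of the centraliser. -/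
def altW (u : List Nat) : List Nat := u.map fun l => ([5, 7, 8] : List Nat).getD l 10

theorem perm_table : σS 0 = 1 ∧ σS 1 = 0 ∧ σS 2 = 2 ∧ σS 3 = 4 ∧ σS 4 = 3 ∧
    σW 0 = 0 ∧ σW 1 = 2 ∧ σW 2 = 1 ∧ σW 3 = 4 ∧ σW 4 = 3 ∧
    σR 0 = 0 ∧ σR 1 = 2 ∧ σR 2 = 3 ∧ σR 3 = 1 ∧ σR 4 = 4 := by decide

theorem sign_σS : Equiv.Perm.sign σS = 1 := by decide

/-- A list of sixty words reaching all even permutations. -/
noncomputable def altWords : List (List Nat) := (List.range 60).map (pathW TA.Par 60)

theorem alt_cover : ((List.finRange 5).all fun a => (List.finRange 5).all fun b =>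
    (List.finRange 5).all fun c => decide (a = b ∨ a = c ∨ b = c) ||
      (altWords.any fun u => decide (permW (altW u) 0 = a) && decide (permW (altW u) 1 = b) &&
        decide (permW (altW u) 2 = c))) = true := by
  decide +kernel

theorem even_ext : ∀ σ : Equiv.Perm (Fin 5), Equiv.Perm.sign σ = 1 → σ 0 = 0 → σ 1 = 1 → σ 2 = 2 →
    σ = 1 := by decide +kernel

theorem alt_letters : (altWords.all fun u => allList (fun l => Nat.blt l 3) u) = true := by
  decide +kernel

theorem sign_permC (l : Nat) : Equiv.Perm.sign (permC l) = 1 := by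
  unfold permC
  split
  · decide
  split
  · decide
  split
  · decide
  split
  · decide
  simp

theorem sign_permW (u : List Nat) : Equiv.Perm.sign (permW u) = 1 := by
  induction u with
  | nil => simp [permW]
  | cons l u ih => rw [permW_cons, map_mul, sign_permC, ih, one_mul]

/-- Every even permutation is that of a short word in the complement. -/
theorem exists_alt_word {σ : Equiv.Perm (Fin 5)} (hσ : Equiv.Perm.sign σ = 1) :
    ∃ u ∈ altWords, permW (altW u) = σ := by
  have h := List.all_eq_true.mp (List.all_eq_true.mp (List.all_eq_true.mp alt_cover (σ 0)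
    (List.mem_finRange _)) (σ 1) (List.mem_finRange _)) (σ 2) (List.mem_finRange _)
  have hne : ¬ (σ 0 = σ 1 ∨ σ 0 = σ 2 ∨ σ 1 = σ 2) := by
    simp [σ.injective.eq_iff]
  rw [Bool.or_eq_true, decide_eq_true_eq] at h
  obtain ⟨u, hu, hp⟩ := List.any_eq_true.mp (h.resolve_left hne)
  simp only [Bool.and_eq_true, decide_eq_true_eq] at hp
  refine ⟨u, hu, ?_⟩
  have := even_ext (σ⁻¹ * permW (altW u)) (by rw [map_mul, map_inv, hσ, sign_permW]; simp)
    (by simp [hp.1.1]) (by simp [hp.1.2]) (by simp [hp.2])
  exact (inv_mul_eq_one.mp this).symm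

set_option synthInstance.maxSize 1000 in
set_option synthInstance.maxHeartbeats 400000 in
/-- An involution fixing a point moves the other fixed point of a three-cycle to a moved one. -/
theorem cycle_data : ∀ σ : Equiv.Perm (Fin 5), Equiv.Perm.sign σ = 1 → σ ^ 3 = 1 → σ ≠ 1 →
    ∀ τ : Equiv.Perm (Fin 5), IsInv5 τ → ∀ k : Fin 5, σ k = k → τ k = k →
      ∃ i l : Fin 5, σ l = l ∧ τ i = l ∧
        ∀ p q : Fin 5, p ≠ q → ([k, i, σ i, σ (σ i), l] : List (Fin 5)).getD p.val 0 ≠
          ([k, i, σ i, σ (σ i), l] : List (Fin 5)).getD q.val 0 := by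
  decide +kernel

end CfsgLib.J2U
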