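import Cfsg.Agent.J2U.Pres
import Cfsg.Agent.J2U.Signed

/-!
The letters as elements of a group, and the conjugation action of a word on the five involutions.
-/

set_option autoImplicit false
set_option maxRecDepth 100000

namespace CfsgLib.J2U

open CfsgLib.Coset

variable {G : Type*} [Group G]

/-- The letters of the centraliser. -/
def LCof (z : G) (b : Fin 5 → G) (S w x : G) : List G :=
  [b 0, b 1, b 2, b 3, b 4, S, w, x, x⁻¹, z]

/-- All letters. -/
def LGof (z : G) (b : Fin 5 → G) (S w x y : G) : List G :=
  [b 0, b 1, b 2, b 3, b 4, S, w, x, x⁻¹, y, y⁻¹, z]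

/-- The letters of the complement. -/
def LAof (S x : G) : List G := [S, x, x⁻¹]

theorem subL_LGof (z : G) (b : Fin 5 → G) (S w x y : G) :
    subL (LGof z b S w x y) = LCof z b S w x := rfl

/-- The action of the letters by conjugation. -/
structure Act (z : G) (b : Fin 5 → G) (S w x : G) : Prop where
  zb : ∀ i, z * b i * z⁻¹ = b i
  S : ∀ i, S * b i * S⁻¹ = b (σS i)
  w : ∀ i, w * b i * w⁻¹ = b (σW i)
  x : ∀ i, x * b i * x⁻¹ = b (σR i)

theorem Act.x_inv {z : G} {b : Fin 5 → G} {S w x : G} (A : Act z b S w x) (i : Fin 5) :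
    x⁻¹ * b i * x = b (σR⁻¹ i) := by
  have h := A.x (σR⁻¹ i)
  rw [show σR (σR⁻¹ i) = i from Equiv.apply_symm_apply σR i] at h
  rw [← h]; group

/-- A word in the outer letters permutes the five involutions. -/
theorem Act.conj_word {z : G} {b : Fin 5 → G} {S w x : G} (A : Act z b S w x) :
    ∀ (u : List Nat), (∀ l ∈ u, 5 ≤ l) → ∀ i,
      ev (LCof z b S w x) u * b i * (ev (LCof z b S w x) u)⁻¹ = b (permW u i) := by
  intro u
  induction u with
  | nil => intro _ i; simp [permW]
  | cons l u ih =>
    intro hu i
    rw [ev_cons, permW_cons, Equiv.Perm.mul_apply,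
      show fl (LCof z b S w x) l * ev (LCof z b S w x) u * b i *
        (fl (LCof z b S w x) l * ev (LCof z b S w x) u)⁻¹ =
        fl (LCof z b S w x) l * (ev (LCof z b S w x) u * b i * (ev (LCof z b S w x) u)⁻¹) *
          (fl (LCof z b S w x) l)⁻¹ by group, ih (fun m hm => hu m (by simp [hm])) i]
    generalize permW u i = j
    have hl := hu l (by simp)
    rcases lt_or_ge l 10 with h10 | h10
    · interval_cases l
      · exact A.S j
      · exact A.w j
      · exact A.x j
      · show x⁻¹ * b j * (x⁻¹)⁻¹ = b (σR⁻¹ j)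
        rw [inv_inv]; exact A.x_inv j
      · simpa [permC, LCof, fl] using A.zb j
    · rw [fl_of_le _ (by simpa [LCof] using h10)]
      have h1 : permC l = 1 := by
        unfold permC
        rw [if_neg (by omega), if_neg (by omega), if_neg (by omega), if_neg (by omega)]
      simp [h1]

theorem fl_alt (z : G) (b : Fin 5 → G) (S w x : G) (l : Nat) :
    fl (LCof z b S w x) (([5, 7, 8] : List Nat).getD l 10) = fl (LAof S x) l := by
  rcases lt_or_ge l 3 with hl | hl
  · interval_cases l <;> rfl
  · rw [List.getD_eq_default _ _ (by simpa using hl), fl_of_le _ (by simp [LCof]),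
      fl_of_le _ (by simpa [LAof] using hl)]

theorem ev_altW (z : G) (b : Fin 5 → G) (S w x : G) (u : List Nat) :
    ev (LCof z b S w x) (altW u) = ev (LAof S x) u := by
  induction u with
  | nil => simp [altW]
  | cons l u ih =>
    rw [ev_cons, ← ih, ← fl_alt z b S w x l]
    simp [altW]

/-- A table for the complement. -/
theorem tableA {S x : G} (hS : S * S = 1) (hx : x * x * x = 1) (h5 : (S * x) ^ 5 = 1) :
    TableOK (LAof S x) (⊥ : Subgroup G) TA.E ivA 60 TA.Rep TA.Tb := by
  have hrel : ∀ u ∈ relsAlt, ev (LAof S x) u = 1 := by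
    intro u hu
    simp only [relsAlt, List.mem_cons, List.not_mem_nil, or_false] at hu
    rcases hu with rfl | rfl | rfl | rfl | rfl <;> simp [LAof, fl]
    · exact hS
    · rw [← mul_assoc]; exact hx
    · simpa [pow_succ, mul_assoc] using h5
  exact tableOK_of_check (inv_of_rels (show (LAof S x).length = 3 from rfl) hrel (by decide +kernel)
    (fun x hx => List.getD_eq_default _ _ (by simpa using hx))) TA.hR TA.hdefs TA.hsteps TA.htable hrel
    (by simp [TA.subs])

end CfsgLib.J2U
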